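import Mathlib

set_option autoImplicit false

/-! # Normalising automorphisms along a tower of Sylow subgroups

For a finite group `G`, an element `x` of prime order `p` with `p² ∤ |G|` and an element `n` of
prime order `q` with `q² ∤ |G|` normalising `⟨x⟩`: every automorphism of `G` can be composed with
an inner automorphism so that it maps `x` into `⟨x⟩` and `n` into `⟨n⟩`. -/

namespace Cfsg.Agent.Lib.Helper27.AutTower

open scoped Pointwise

variable {G : Type*} [Group G] [Finite G]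

/-- subgroups of prime order `p` are conjugate when `p²` does not divide the group order -/
theorem exists_conj_mem {p : ℕ} [Fact p.Prime] (hp : ¬ p ^ 2 ∣ Nat.card G)
    (P Q : Subgroup G) (hP : Nat.card P = p) (hQ : Nat.card Q = p) :
    ∃ g : G, ∀ y ∈ Q, g * y * g⁻¹ ∈ P := by
  have key : ∀ R : Subgroup G, Nat.card R = p → ∃ S : Sylow p G, (S : Subgroup G) = R := by
    intro R hR
    have hpg : IsPGroup p R := IsPGroup.of_card (n := 1) (by rw [hR, pow_one])
    obtain ⟨S, hS⟩ := hpg.exists_le_sylow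
    refine ⟨S, ?_⟩
    symm
    apply Subgroup.eq_of_le_of_card_ge hS
    rw [hR, Sylow.card_eq_multiplicity]
    have h1 : (Nat.card G).factorization p ≤ 1 := by
      by_contra hc
      push Not at hc
      apply hp
      exact dvd_trans (pow_dvd_pow p hc) (Nat.ordProj_dvd (Nat.card G) p)
    calc p ^ (Nat.card G).factorization p ≤ p ^ 1 :=
          Nat.pow_le_pow_right (Fact.out : p.Prime).pos h1
      _ = p := pow_one p
  obtain ⟨S1, h1⟩ := key P hP
  obtain ⟨S2, h2⟩ := key Q hQ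
  obtain ⟨g, hg⟩ := MulAction.exists_smul_eq G S2 S1
  refine ⟨g, fun y hy => ?_⟩
  have hy2 : y ∈ (S2 : Subgroup G) := by rw [h2]; exact hy
  have h3 : MulAut.conj g • y ∈ MulAut.conj g • (S2 : Subgroup G) :=
    Subgroup.smul_mem_pointwise_smul y _ _ hy2
  rw [← Sylow.coe_subgroup_smul, hg, h1] at h3
  exact h3

/-- the same inside a subgroup `N` -/
theorem exists_conj_mem_in {q : ℕ} [Fact q.Prime] (hq : ¬ q ^ 2 ∣ Nat.card G)
    (N Q Q' : Subgroup G) (hQN : Q ≤ N) (hQ'N : Q' ≤ N) (hQ : Nat.card Q = q)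
    (hQ' : Nat.card Q' = q) : ∃ m ∈ N, ∀ y ∈ Q', m * y * m⁻¹ ∈ Q := by
  have hqN : ¬ q ^ 2 ∣ Nat.card N :=
    fun h => hq (dvd_trans h (Subgroup.card_subgroup_dvd_card N))
  have c1 : Nat.card (Q.subgroupOf N) = q := by
    rw [Nat.card_congr (Subgroup.subgroupOfEquivOfLe hQN).toEquiv, hQ]
  have c2 : Nat.card (Q'.subgroupOf N) = q := by
    rw [Nat.card_congr (Subgroup.subgroupOfEquivOfLe hQ'N).toEquiv, hQ']
  obtain ⟨g, hg⟩ := exists_conj_mem hqN (Q.subgroupOf N) (Q'.subgroupOf N) c1 c2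
  refine ⟨g.1, g.2, fun y hy => ?_⟩
  have h := hg ⟨y, hQ'N hy⟩ (Subgroup.mem_subgroupOf.2 hy)
  exact Subgroup.mem_subgroupOf.1 h

/-- an injective self-map of `G` mapping a subgroup into itself maps it onto itself -/
theorem surj_of_maps (P : Subgroup G) (f : G → G) (hf : Function.Injective f)
    (hfP : ∀ y ∈ P, f y ∈ P) : ∀ y ∈ P, ∃ y' ∈ P, f y' = y := by
  intro y hy
  let F : P → P := fun u => ⟨f u.1, hfP u.1 u.2⟩
  have hF : Function.Injective F := fun a b h => Subtype.ext (hf (congrArg Subtype.val h))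
  obtain ⟨u, hu⟩ := Finite.surjective_of_injective hF ⟨y, hy⟩
  exact ⟨u.1, u.2, congrArg Subtype.val hu⟩

/-- an element conjugating a subgroup into itself normalises it -/
theorem mem_normalizer_of_maps (P : Subgroup G) (m : G) (hm : ∀ y ∈ P, m * y * m⁻¹ ∈ P) :
    m ∈ Subgroup.normalizer (P : Set G) := by
  rw [Subgroup.mem_normalizer_iff]
  intro h
  refine ⟨fun hh => hm h hh, fun hh => ?_⟩
  have hinj : Function.Injective (fun y : G => m * y * m⁻¹) := by
    intro a b hab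
    exact mul_left_cancel (mul_right_cancel hab)
  obtain ⟨y', hy', e⟩ := surj_of_maps P _ hinj hm _ hh
  have : y' = h := hinj e
  rw [← this]; exact hy'

/-- an element conjugating `x` to a power of `x` normalises `⟨x⟩` -/
theorem mem_normalizer_zpowers {x n : G} {r : ℕ} (hnx : n * x * n⁻¹ = x ^ r) :
    n ∈ Subgroup.normalizer (Subgroup.zpowers x : Set G) := by
  apply mem_normalizer_of_maps
  intro y hy
  obtain ⟨i, rfl⟩ := Subgroup.mem_zpowers_iff.1 hy
  rw [← conj_zpow, hnx]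
  exact Subgroup.zpow_mem _ (Subgroup.pow_mem _ (Subgroup.mem_zpowers x) r) i

theorem exists_pow_of_mem_zpowers {x y : G} (h : y ∈ Subgroup.zpowers x) : ∃ k : ℕ, y = x ^ k := by
  rw [← mem_powers_iff_mem_zpowers] at h
  obtain ⟨k, hk⟩ := (Submonoid.mem_powers_iff _ _).1 h
  exact ⟨k, hk.symm⟩

/-- **Tower normalisation**: after composing with an inner automorphism, an automorphism maps
`x` into `⟨x⟩` and `n` into `⟨n⟩`. -/
theorem normal_form {p q : ℕ} [Fact p.Prime] [Fact q.Prime] {x n : G}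
    (hx : orderOf x = p) (hn : orderOf n = q)
    (hp : ¬ p ^ 2 ∣ Nat.card G) (hq : ¬ q ^ 2 ∣ Nat.card G)
    {r : ℕ} (hnx : n * x * n⁻¹ = x ^ r) (α : MulAut G) :
    ∃ g : G, ∃ k j : ℕ, g * α x * g⁻¹ = x ^ k ∧ g * α n * g⁻¹ = n ^ j := by
  have hPc : Nat.card (Subgroup.zpowers x) = p := by rw [Nat.card_zpowers, hx]
  have hP'c : Nat.card (Subgroup.zpowers (α x)) = p := by
    rw [Nat.card_zpowers, MulEquiv.orderOf_eq, hx]
  obtain ⟨g1, hg1⟩ := exists_conj_mem hp (Subgroup.zpowers x) (Subgroup.zpowers (α x)) hPc hP'c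
  let β : MulAut G := MulAut.conj g1 * α
  have hβ : ∀ y, β y = g1 * α y * g1⁻¹ := fun y => rfl
  have hβx : β x ∈ Subgroup.zpowers x := hg1 _ (Subgroup.mem_zpowers _)
  have hβP : ∀ y ∈ Subgroup.zpowers x, β y ∈ Subgroup.zpowers x := by
    intro y hy
    obtain ⟨i, rfl⟩ := Subgroup.mem_zpowers_iff.1 hy
    rw [map_zpow]
    exact Subgroup.zpow_mem _ hβx i
  have hβP' := surj_of_maps (Subgroup.zpowers x) β β.injective hβP
  have hnN := mem_normalizer_zpowers hnx
  have hβnN : β n ∈ Subgroup.normalizer (Subgroup.zpowers x : Set G) := by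
    apply mem_normalizer_of_maps
    intro y hy
    obtain ⟨y', hy', rfl⟩ := hβP' y hy
    rw [← map_inv, ← map_mul, ← map_mul]
    exact hβP _ ((Subgroup.mem_normalizer_iff.1 hnN y').1 hy')
  have hQc : Nat.card (Subgroup.zpowers n) = q := by rw [Nat.card_zpowers, hn]
  have hQ'c : Nat.card (Subgroup.zpowers (β n)) = q := by
    rw [Nat.card_zpowers, MulEquiv.orderOf_eq, hn]
  obtain ⟨m, hmN, hm⟩ := exists_conj_mem_in hq (Subgroup.normalizer (Subgroup.zpowers x : Set G))
    (Subgroup.zpowers n) (Subgroup.zpowers (β n)) ((Subgroup.zpowers_le).2 hnN)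
    ((Subgroup.zpowers_le).2 hβnN) hQc hQ'c
  obtain ⟨k, hk⟩ := exists_pow_of_mem_zpowers ((Subgroup.mem_normalizer_iff.1 hmN (β x)).1 hβx)
  obtain ⟨j, hj⟩ := exists_pow_of_mem_zpowers (hm _ (Subgroup.mem_zpowers (β n)))
  refine ⟨m * g1, k, j, ?_, ?_⟩
  · rw [← hk, hβ]; simp only [mul_inv_rev, mul_assoc]
  · rw [← hj, hβ]; simp only [mul_inv_rev, mul_assoc]

omit [Finite G] in
/-- if `n ^ j ≠ 1` for `n` of prime order then `n` is a power of `n ^ j` -/
theorem exists_pow_pow_eq {q : ℕ} [Fact q.Prime] {n : G} (hn : orderOf n = q) {j : ℕ}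
    (hj : n ^ j ≠ 1) : ∃ l : ℕ, (n ^ j) ^ l = n := by
  apply exists_pow_eq_self_of_coprime
  rw [hn]
  apply Nat.Coprime.symm
  rw [Nat.Prime.coprime_iff_not_dvd (Fact.out : q.Prime)]
  intro hd
  apply hj
  rw [← hn] at hd
  exact orderOf_dvd_iff_pow_eq_one.1 hd

/-- version with a unique involution centralising `n` -/
theorem normal_form_central {p q : ℕ} [Fact p.Prime] [Fact q.Prime] {x n z : G}
    (hx : orderOf x = p) (hn : orderOf n = q)
    (hp : ¬ p ^ 2 ∣ Nat.card G) (hq : ¬ q ^ 2 ∣ Nat.card G)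
    {r : ℕ} (hnx : n * x * n⁻¹ = x ^ r)
    (hz2 : z * z = 1) (hz1 : z ≠ 1) (hzn : z * n = n * z)
    (huniq : ∀ g : G, g * n = n * g → g * g = 1 → g = 1 ∨ g = z) (α : MulAut G) :
    ∃ g : G, ∃ k : ℕ, g * α x * g⁻¹ = x ^ k ∧ g * α z * g⁻¹ = z := by
  obtain ⟨g, k, j, h1, h2⟩ := normal_form hx hn hp hq hnx α
  refine ⟨g, k, h1, ?_⟩
  let β : MulAut G := MulAut.conj g * α
  have hβ : ∀ y, β y = g * α y * g⁻¹ := fun y => rfl
  rw [← hβ] at h2 ⊢
  have hn1 : n ≠ 1 := by
    intro h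
    rw [h, orderOf_one] at hn
    exact (Fact.out : q.Prime).ne_one hn.symm
  have hj : n ^ j ≠ 1 := by
    rw [← h2]
    intro h
    exact hn1 (β.injective (by rw [h, map_one]))
  obtain ⟨l, hl⟩ := exists_pow_pow_eq hn hj
  have hc : Commute (β z) (n ^ j) := by
    have := congrArg β hzn
    rw [map_mul, map_mul, h2] at this
    exact this
  have hc2 : β z * n = n * β z := by
    have := hc.pow_right l
    rw [hl] at this
    exact this
  have hsq : β z * β z = 1 := by rw [← map_mul, hz2, map_one]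
  rcases huniq (β z) hc2 hsq with h | h
  · exact absurd (β.injective (by rw [h, map_one])) hz1
  · exact h

/-- version with an involution inverting `n`, unique up to conjugation by powers of `n` -/
theorem normal_form_invert {p q : ℕ} [Fact p.Prime] [Fact q.Prime] {x n z : G}
    (hx : orderOf x = p) (hn : orderOf n = q)
    (hp : ¬ p ^ 2 ∣ Nat.card G) (hq : ¬ q ^ 2 ∣ Nat.card G)
    {r : ℕ} (hnx : n * x * n⁻¹ = x ^ r)
    (hz2 : z * z = 1) (hz1 : z ≠ 1) (hzn : z * n * z⁻¹ = n⁻¹)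
    (hinv : ∀ g : G, g * g = 1 → g ≠ 1 → g * n * g⁻¹ = n⁻¹ → ∃ i : ℕ, g = n ^ i * z * (n ^ i)⁻¹)
    (α : MulAut G) :
    ∃ g : G, ∃ k : ℕ, g * α x * g⁻¹ = x ^ k ∧ g * α z * g⁻¹ = z := by
  obtain ⟨g, k, j, h1, h2⟩ := normal_form hx hn hp hq hnx α
  let β : MulAut G := MulAut.conj g * α
  have hβ : ∀ y, β y = g * α y * g⁻¹ := fun y => rfl
  rw [← hβ] at h1 h2
  have hn1 : n ≠ 1 := by
    intro h
    rw [h, orderOf_one] at hn
    exact (Fact.out : q.Prime).ne_one hn.symm
  have hj : n ^ j ≠ 1 := by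
    rw [← h2]
    intro h
    exact hn1 (β.injective (by rw [h, map_one]))
  obtain ⟨l, hl⟩ := exists_pow_pow_eq hn hj
  have hc : β z * n ^ j * (β z)⁻¹ = (n ^ j)⁻¹ := by
    have := congrArg β hzn
    rw [map_mul, map_mul, map_inv, map_inv, h2] at this
    exact this
  have hc2 : β z * n * (β z)⁻¹ = n⁻¹ := by
    have := congrArg (· ^ l) hc
    simp only [conj_pow, inv_pow, hl] at this
    exact this
  have hsq : β z * β z = 1 := by rw [← map_mul, hz2, map_one]
  have hne : β z ≠ 1 := fun h => hz1 (β.injective (by rw [h, map_one]))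
  obtain ⟨i, hi⟩ := hinv (β z) hsq hne hc2
  have hnN := mem_normalizer_zpowers hnx
  have hiN : (n ^ i)⁻¹ ∈ Subgroup.normalizer (Subgroup.zpowers x : Set G) :=
    Subgroup.inv_mem _ (Subgroup.pow_mem _ hnN i)
  have hxk : β x ∈ Subgroup.zpowers x := by
    rw [h1]; exact Subgroup.pow_mem _ (Subgroup.mem_zpowers x) k
  obtain ⟨k', hk'⟩ := exists_pow_of_mem_zpowers ((Subgroup.mem_normalizer_iff.1 hiN (β x)).1 hxk)
  refine ⟨(n ^ i)⁻¹ * g, k', ?_, ?_⟩
  · rw [← hk', hβ]; simp only [mul_inv_rev, mul_assoc]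
  · have : (n ^ i)⁻¹ * g * α z * ((n ^ i)⁻¹ * g)⁻¹ = (n ^ i)⁻¹ * β z * (n ^ i) := by
      rw [hβ]; simp only [mul_inv_rev, mul_assoc, inv_inv]
    rw [this, hi]
    simp only [mul_assoc, inv_mul_cancel, mul_one, inv_mul_cancel_left]

omit [Finite G] in
/-- automorphisms agreeing on two generators are equal -/
theorem eq_of_gen {x z : G} (hgen : Subgroup.closure {x, z} = ⊤) (α β : MulAut G)
    (h1 : α x = β x) (h2 : α z = β z) : α = β := by
  have h : (α.toMonoidHom : G →* G) = β.toMonoidHom := by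
    apply MonoidHom.eq_of_eqOn_dense hgen
    intro y hy
    rcases hy with rfl | rfl
    · exact h1
    · exact h2
  ext y
  exact congrArg (fun f : G →* G => f y) h

/-- words in two letters -/
def wd (x z : G) (W : List Bool) : G := (W.map fun b => if b then x else z).prod

omit [Finite G] in
theorem map_wd (γ : MulAut G) (x z : G) (W : List Bool) : γ (wd x z W) = wd (γ x) (γ z) W := by
  unfold wd
  rw [map_list_prod, List.map_map]
  congr 1
  apply List.map_congr_left
  intro b _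
  cases b <;> rfl

end Cfsg.Agent.Lib.Helper27.AutTower
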