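import Mathlib
import Cfsg.Agent.Lib.Helper27.AutTower

set_option autoImplicit false

/-! # Tower normalisation, version with an element conjugating `n` to a fixed power -/

namespace Cfsg.Agent.Lib.Helper27.AutTower

variable {G : Type*} [Group G] [Finite G]

/-- version with an element `z` with `z n z⁻¹ = n ^ s`, unique up to conjugation by powers
of `n` -/
theorem normal_form_conj {p q : ℕ} [Fact p.Prime] [Fact q.Prime] {x n z : G}
    (hx : orderOf x = p) (hn : orderOf n = q)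
    (hp : ¬ p ^ 2 ∣ Nat.card G) (hq : ¬ q ^ 2 ∣ Nat.card G)
    {r : ℕ} (hnx : n * x * n⁻¹ = x ^ r) {s : ℕ} (hzn : z * n * z⁻¹ = n ^ s)
    (hinv : ∀ g : G, g * n * g⁻¹ = n ^ s → ∃ i : ℕ, g = n ^ i * z * (n ^ i)⁻¹)
    (α : MulAut G) :
    ∃ g : G, ∃ k : ℕ, g * α x * g⁻¹ = x ^ k ∧ g * α z * g⁻¹ = z := by
  obtain ⟨g, k, j, h1, h2⟩ := normal_form hx hn hp hq hnx α
  let β : MulAut G := MulAut.conj g * α
  have hβ : ∀ y, β y = g * α y * g⁻¹ := fun y => rfl
  rw [← hβ] at h1 h2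
  have hn1 : n ≠ 1 := by
    intro h
    rw [h, orderOf_one] at hn
    exact (Fact.out : q.Prime).ne_one hn.symm
  have hj : n ^ j ≠ 1 := by
    rw [← h2]
    intro h
    exact hn1 (β.injective (by rw [h, map_one]))
  obtain ⟨l, hl⟩ := exists_pow_pow_eq hn hj
  have hc : β z * n ^ j * (β z)⁻¹ = (n ^ j) ^ s := by
    have := congrArg β hzn
    rw [map_mul, map_mul, map_inv, map_pow, h2] at this
    exact this
  have hc2 : β z * n * (β z)⁻¹ = n ^ s := by
    have := congrArg (· ^ l) hc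
    simp only [conj_pow] at this
    rw [hl, ← pow_mul, mul_comm, pow_mul, hl] at this
    exact this
  obtain ⟨i, hi⟩ := hinv (β z) hc2
  have hnN := mem_normalizer_zpowers hnx
  have hiN : (n ^ i)⁻¹ ∈ Subgroup.normalizer (Subgroup.zpowers x : Set G) :=
    Subgroup.inv_mem _ (Subgroup.pow_mem _ hnN i)
  have hxk : β x ∈ Subgroup.zpowers x := by
    rw [h1]; exact Subgroup.pow_mem _ (Subgroup.mem_zpowers x) k
  obtain ⟨k', hk'⟩ := exists_pow_of_mem_zpowers ((Subgroup.mem_normalizer_iff.1 hiN (β x)).1 hxk)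
  refine ⟨(n ^ i)⁻¹ * g, k', ?_, ?_⟩
  · rw [← hk', hβ]; simp only [mul_inv_rev, mul_assoc]
  · have : (n ^ i)⁻¹ * g * α z * ((n ^ i)⁻¹ * g)⁻¹ = (n ^ i)⁻¹ * β z * (n ^ i) := by
      rw [hβ]; simp only [mul_inv_rev, mul_assoc, inv_inv]
    rw [this, hi]
    simp only [mul_assoc, inv_mul_cancel, mul_one, inv_mul_cancel_left]

end Cfsg.Agent.Lib.Helper27.AutTower
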