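import Cfsg.Agent.Lib.Helper27.OctOrbit

set_option autoImplicit false

open scoped Pointwise

namespace Cfsg.Agent.Lib.Helper27.OO

open Cfsg.Agent.Lib.Helper7

theorem support_exists_enc {o : Finset Cfsg.GolayPt} (ho : o ∈ golaySupports) :
    ∃ k < 4096, o = setOf (enc k) ∧ popc (enc k) = o.card := by
  obtain ⟨k, hk, rfl⟩ := exists_mask_of_mem_golaySupports ho
  exact ⟨k, hk, rfl, by rw [card_setOf]⟩

theorem setOf_enc_mem_supports (k : ℕ) : setOf (enc k) ∈ golaySupports :=
  setOf_mem_golaySupports (enc_lt k) (isCode_enc k)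

/-- First level for code words of weight `w`: the stabiliser of the base points is transitive
on the supports of weight `w` with the incidence property. -/
theorem level1w_of (w : ℕ) (idxs : List ℕ) (F R : ℕ) (Inc : Finset Cfsg.GolayPt → Prop)
    (inc : ℕ → Bool) (hInc : ∀ m, Inc (setOf m) ↔ inc m = true)
    (T1 : List ℕ) (steps1 : List (ℕ × ℕ)) (B1 rootk : ℕ)
    (hfix : idxs.all (fun l => fixesT (ltabs.getD l idT) F) = true)
    (hT1 : selT idxs = T1) (hroot : enc rootk = R)
    (hreach1 : reach T1 steps1 (2 ^ rootk) = B1)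
    (hcov1 : (List.range 4096).all
      (fun k => popc (enc k) != w || !inc (enc k) || B1.testBit k) = true)
    {o : Finset Cfsg.GolayPt} (ho : o ∈ golaySupports) (hw : o.card = w) (hi : Inc o) :
    ∃ u ∈ fixSub F, u • o = setOf R := by
  obtain ⟨k, hk, rfl, h8⟩ := support_exists_enc ho
  rw [hw] at h8
  have h1 := all_range hcov1 k hk
  rw [h8, (hInc _).mp hi] at h1
  simp only [bne_self_eq_false, Bool.not_true, Bool.false_or] at h1
  rw [← hreach1] at h1
  have hrep := sel_rep idxs
  rw [hT1] at hrep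
  obtain ⟨u, hu, hus⟩ := orbit_of_reach (selGrp idxs)
    ((selGrp_le_fixSub hfix).trans (fixSub_le_M24 F)) hrep (sel_mem_selGrp idxs) rootk steps1 h1
  refine ⟨u⁻¹, (fixSub F).inv_mem (selGrp_le_fixSub hfix hu), ?_⟩
  rw [← hus, inv_smul_smul, hroot]

/-- Counting supports of weight `w` with a property through the information words. -/
theorem ncard_supports_and (w : ℕ) (P : Finset Cfsg.GolayPt → Prop) (q : ℕ → Bool)
    (hPq : ∀ k, P (setOf (enc k)) ↔ q (enc k) = true) :
    {o : Finset Cfsg.GolayPt | (o ∈ golaySupports ∧ o.card = w) ∧ P o}.ncard =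
      ((Finset.range 4096).filter (fun k => popc (enc k) = w ∧ q (enc k) = true)).card := by
  have hset : {o : Finset Cfsg.GolayPt | (o ∈ golaySupports ∧ o.card = w) ∧ P o} =
      (((Finset.range 4096).filter (fun k => popc (enc k) = w ∧ q (enc k) = true)).image
        (fun k => setOf (enc k)) : Finset (Finset Cfsg.GolayPt)) := by
    ext o
    simp only [Set.mem_ofPred_eq, Finset.coe_image, Finset.coe_filter, Finset.mem_range,
      Set.mem_image]
    constructor
    · rintro ⟨⟨ho, hw⟩, hP⟩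
      obtain ⟨k, hk, rfl, h8⟩ := support_exists_enc ho
      exact ⟨k, ⟨hk, h8.trans hw, (hPq k).mp hP⟩, rfl⟩
    · rintro ⟨k, ⟨hk, h8, hq⟩, rfl⟩
      exact ⟨⟨setOf_enc_mem_supports k, by rw [card_setOf, h8]⟩, (hPq k).mpr hq⟩
  rw [hset, Set.ncard_coe_finset, Finset.card_image_of_injOn]
  intro k hk l hl h
  simp only [Finset.coe_filter, Finset.mem_range, Set.mem_ofPred_eq] at hk hl
  have := setOf_injective (enc_lt k) (enc_lt l) h
  rw [← enc_shift k hk.1, ← enc_shift l hl.1, this]

/-- Orbit-stabiliser for a subgroup acting on a type, in elementary terms. -/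
theorem card_eq_orbit_mul' {G X : Type*} [Group G] [MulAction G X] (H : Subgroup G) (x : X) :
    Nat.card H = Set.ncard {y | ∃ g ∈ H, g • x = y} *
      Nat.card (H ⊓ MulAction.stabilizer G x : Subgroup G) := by
  have h1 := MulAction.index_stabilizer (↥H) x
  have h2 := Subgroup.index_mul_card (MulAction.stabilizer (↥H) x)
  have h3 : MulAction.orbit (↥H) x = {y | ∃ g ∈ H, g • x = y} := by
    ext y
    rw [MulAction.mem_orbit_iff]; show (∃ g : ↥H, g • x = y) ↔ ∃ g ∈ H, g • x = y
    constructor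
    · rintro ⟨g, rfl⟩
      exact ⟨g.1, g.2, rfl⟩
    · rintro ⟨g, hg, rfl⟩
      exact ⟨⟨g, hg⟩, rfl⟩
  have h4 : Nat.card (MulAction.stabilizer (↥H) x) =
      Nat.card (H ⊓ MulAction.stabilizer G x : Subgroup G) := by
    apply Nat.card_congr
    refine ⟨fun g => ⟨g.1.1, g.1.2, g.2⟩, fun g => ⟨⟨g.1, g.2.1⟩, g.2.2⟩, ?_, ?_⟩
    · intro g; rfl
    · intro g; rfl
  rw [← h2, h1, h3, h4]

theorem smul_mem_supports_iff {g : Equiv.Perm Cfsg.GolayPt} (hg : g ∈ Cfsg.M24)
    (o : Finset Cfsg.GolayPt) : g • o ∈ golaySupports ↔ o ∈ golaySupports := by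
  constructor
  · intro h
    have := smul_mem_golaySupports (Cfsg.M24.inv_mem hg) h
    rwa [inv_smul_smul] at this
  · exact smul_mem_golaySupports hg

theorem exists_map3 {p q r p' q' r' : Cfsg.GolayPt} (hpq : p ≠ q) (hpr : p ≠ r) (hqr : q ≠ r)
    (hpq' : p' ≠ q') (hpr' : p' ≠ r') (hqr' : q' ≠ r') :
    ∃ g ∈ Cfsg.M24, g p = p' ∧ g q = q' ∧ g r = r' := by
  have inj : ∀ a b c : Cfsg.GolayPt, a ≠ b → a ≠ c → b ≠ c → Function.Injective ![a, b, c] := by
    intro a b c hab hac hbc i j h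
    fin_cases i <;> fin_cases j <;> simp_all
  obtain ⟨g, hg, h⟩ := M24_exists_smul_eq (n := 3) (by norm_num)
    ⟨![p, q, r], inj p q r hpq hpr hqr⟩ ⟨![p', q', r'], inj p' q' r' hpq' hpr' hqr'⟩
  exact ⟨g, hg, h 0, h 1, h 2⟩

/-- The word with a given support. -/
theorem eq_wordOf_of_support {w : Cfsg.GolayPt → ZMod 2} {m : ℕ}
    (h : Cfsg.support₂ w = setOf m) : w = wordOf m :=
  support₂_injective (h.trans (support₂_wordOf m).symm)

/-- Point orbits of a group generated by words, from the closure computation. -/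
theorem point_orbit (ws : List (List ℕ)) (T : List ℕ) (hT : ws.map (evalT ltabs) = T)
    (b r : ℕ) {y : ℕ} (hy : y < 24) (h : (iterGrow T r (2 ^ b)).testBit y = true) :
    ∃ u ∈ wordsGrp ws, u (pt b) = pt y := by
  have hrep := words_rep ws
  rw [hT] at hrep
  exact orbit_lower (wordsGrp ws) hrep (words_mem ws) b r (2 ^ b)
    (orbit_lower_start (wordsGrp ws) b) y hy h

end Cfsg.Agent.Lib.Helper27.OO
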