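import Mathlib
import Cfsg.Agent.Lib.Helper27.Knorr3
import Cfsg.Agent.Lib.Helper3.KnorrCore

/-!
# Knörr's theorem and the Harris–Knörr correspondence

The core case of Knörr's theorem (`Cfsg.Agent.Lib.Helper3.KnorrCore.knorr_core`) discharges the
hypothesis `CoreHyp` of the reductions in `Knorr1`, `Knorr2` and `Knorr3`.
-/

set_option autoImplicit false

namespace Cfsg.Agent.Lib.Helper27.Knorr

universe u

/-- the core case of Knörr's theorem holds -/
theorem coreHyp {p : ℕ} [Fact p.Prime] {M : Ideal Cfsg.AlgInt} (hM : Cfsg.IsPModular p M) :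
    CoreHyp.{u} p M :=
  fun _ _ _ N _ _ b hb hinv B hB hcov P hP hPN hG =>
    Cfsg.Agent.Lib.Helper3.KnorrCore.knorr_core p M hM N b hb hinv B hB hcov P hP hPN hG

end Cfsg.Agent.Lib.Helper27.Knorr
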