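import Mathlib
import Cfsg.Agent.Lib.Helper86.MathieuOrders
import Cfsg.Agent.Lib.Helper27.AutTower

set_option autoImplicit false

/-! # Table tools for `M12` / `M11`: rigidity, enumeration by intertwining, generation chains -/

namespace Cfsg.Agent.Lib.Helper27.MT

open Cfsg Cfsg.Agent.Lib.Helper6.Golay Cfsg.Agent.Lib.Helper6.M24 Cfsg.Agent.Lib.Helper6.M12
  Cfsg.Agent.Lib.Helper86

/-- the mask of the dodecad of squares -/
def dM : ℕ := 340831

theorem mem_sqD {p : GolayPt} : p ∈ Spor.squareDodecad ↔ dM.testBit (idx p) = true := by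
  rw [squareDodecad_eq, mem_suppMask]; rfl

theorem apply_mem_sqD {g : Equiv.Perm GolayPt} (hg : g ∈ Spor.M12) {p : GolayPt}
    (hp : p ∈ Spor.squareDodecad) : g p ∈ Spor.squareDodecad := by
  have h := (mem_M12_iff.1 hg).2
  have h2 := Finset.mem_image_of_mem g hp
  rw [h] at h2
  exact h2

theorem mem_M12_iff' {σ : Equiv.Perm GolayPt} :
    σ ∈ Spor.M12 ↔ σ ∈ M24 ∧ ∀ p, σ p ∈ Spor.squareDodecad ↔ p ∈ Spor.squareDodecad := by
  constructor
  · intro h
    refine ⟨(mem_M12_iff.1 h).1, fun p => ⟨fun hp => ?_, fun hp => apply_mem_sqD h hp⟩⟩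
    have h2 := (mem_M12_iff.1 h).2
    rw [← h2] at hp
    obtain ⟨p', hp', e⟩ := Finset.mem_image.1 hp
    have : p' = p := σ.injective e
    rw [← this]; exact hp'
  · rintro ⟨h1, h2⟩
    refine mem_M12_iff.2 ⟨h1, ?_⟩
    ext q
    constructor
    · intro hq
      obtain ⟨p, hp, rfl⟩ := Finset.mem_image.1 hq
      exact (h2 p).2 hp
    · intro hq
      refine Finset.mem_image.2 ⟨σ⁻¹ q, ?_, by simp⟩
      rw [← h2]; simpa using hq

theorem tabPermD_pt {t : List ℕ} (hv : tabValid t = true) {j : ℕ} (hj : j < 24) :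
    tabPermD t (pt j) = pt (t.getD j 0) := by
  rw [tabPermD_eq hv, tabPerm_pt t hv hj]

theorem pt_inj {i j : ℕ} (hi : i < 24) (hj : j < 24) (h : pt i = pt j) : i = j := by
  have := congrArg idx h
  rwa [idx_pt hi, idx_pt hj] at this

theorem tabPermD_ne_one {t : List ℕ} (hv : tabValid t = true) (j : ℕ) (hj : j < 24)
    (h : t.getD j 0 ≠ j) : tabPermD t ≠ 1 := by
  intro e
  have := tabPermD_pt hv hj
  rw [e] at this
  exact h (pt_inj (getD_lt hv hj) hj this.symm)

theorem tabPermD_mul {a b : List ℕ} (ha : tabValid a = true) (hb : tabValid b = true)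
    (hc : tabValid (tabMul a b) = true) : tabPermD a * tabPermD b = tabPermD (tabMul a b) := by
  rw [tabPermD_eq ha, tabPermD_eq hb, tabPermD_eq hc, tabPerm_mul]

theorem tabPermD_inj {a b : List ℕ} (ha : tabValid a = true) (hb : tabValid b = true)
    (h : tabPermD a = tabPermD b) : a = b := by
  rw [tabPermD_eq ha, tabPermD_eq hb] at h
  exact tabPerm_inj ha hb h

/-- table of the `k`-th power -/
theorem pow_tab (t : List ℕ) (k : ℕ) (h : prodValid (List.replicate k t) = true) :
    tabPermD t ^ k = tabPermD (tabProd (List.replicate k t)) := by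
  rw [← prod_tabPermD h, List.map_replicate, List.prod_replicate]

/-- the value of a two-letter word in a subgroup, by tables -/
theorem coe_wd {H : Subgroup (Equiv.Perm GolayPt)} (a c : H) (ta tc : List ℕ)
    (ha : (a : Equiv.Perm GolayPt) = tabPermD ta) (hc : (c : Equiv.Perm GolayPt) = tabPermD tc)
    (W : List Bool) :
    ((AutTower.wd a c W : H) : Equiv.Perm GolayPt) =
      ((W.map fun b => if b then ta else tc).map tabPermD).prod := by
  unfold AutTower.wd
  rw [Subgroup.val_list_prod, List.map_map, List.map_map]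
  congr 1
  apply List.map_congr_left
  intro b _
  cases b <;> simp [ha, hc]

/-! ### rigidity -/

/-- five distinct points of the dodecad -/
def tupOK (P : List ℕ) : Bool :=
  decide (P.length = 5) && decide P.Nodup && P.all (fun j => decide (j < 24) && dM.testBit j)

theorem eq_of_agree5 {g h : Equiv.Perm GolayPt} (hg : g ∈ Spor.M12) (hh : h ∈ Spor.M12)
    (P : List ℕ) (hP : tupOK P = true) (hag : ∀ j ∈ P, g (pt j) = h (pt j)) : g = h := by
  unfold tupOK at hP
  simp only [Bool.and_eq_true, decide_eq_true_eq, List.all_eq_true] at hP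
  obtain ⟨⟨hlen, hnd⟩, hall⟩ := hP
  let x : Fin 5 ↪ GolayPt := ⟨fun i => pt (P.get (Fin.cast hlen.symm i)), by
    intro i j hij
    have hi := (hall _ (List.get_mem P (Fin.cast hlen.symm i))).1
    have hj := (hall _ (List.get_mem P (Fin.cast hlen.symm j))).1
    have h1 := pt_inj hi hj hij
    have h2 := (List.Nodup.get_inj_iff hnd).1 h1
    exact Fin.cast_injective _ h2⟩
  have hσ : h⁻¹ * g ∈ Spor.M12 := Subgroup.mul_mem _ (Subgroup.inv_mem _ hh) hg
  have h1 : h⁻¹ * g = 1 := by
    apply dodecad_rigid (mem_M12_iff.1 hσ).1 squareDodecad_mem (mem_M12_iff.1 hσ).2 x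
    · intro i
      have hi := hall _ (List.get_mem P (Fin.cast hlen.symm i))
      refine mem_sqD.2 ?_
      show dM.testBit (idx (pt (P.get (Fin.cast hlen.symm i)))) = true
      rw [idx_pt hi.1]; exact hi.2
    · intro i
      show h⁻¹ (g (pt (P.get (Fin.cast hlen.symm i)))) = pt (P.get (Fin.cast hlen.symm i))
      rw [hag _ (List.get_mem P (Fin.cast hlen.symm i))]
      simp
  exact (inv_mul_eq_one.1 h1).symm

/-! ### enumeration of the elements intertwining two tables -/

/-- iterate a table -/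
def itab (t : List ℕ) : ℕ → ℕ → ℕ
  | 0, a => a
  | j + 1, a => t.getD (itab t j a) 0

theorem itab_lt {t : List ℕ} (hv : tabValid t = true) {a : ℕ} (ha : a < 24) :
    ∀ j, itab t j a < 24
  | 0 => ha
  | j + 1 => getD_lt hv (itab_lt hv ha j)

/-- the check behind `enum_intertwine` -/
def enumOK (t1 t2 : List ℕ) (F : List ℕ) (A0 k : ℕ) (cands : List (List ℕ)) : Bool :=
  tabValid t1 && tabValid t2 &&
  tupOK (F ++ (List.range k).map (fun j => itab t1 j A0)) &&
  decide (A0 < 24) && dM.testBit A0 && !(F.contains A0) && !(t1.getD A0 0 == A0) &&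
  F.all (fun p => decide (p < 24)) &&
  cands.all (fun t => m12Tab t && F.all (fun p => t.getD p 0 == p)) &&
  (List.range 24).all (fun c => !(dM.testBit c) || F.contains c || (t2.getD c 0 == c) ||
    cands.any (fun t => (List.range k).all (fun j => t.getD (itab t1 j A0) 0 == itab t2 j c)))

theorem enum_intertwine {g : Equiv.Perm GolayPt} (hg : g ∈ Spor.M12) {t1 t2 F : List ℕ}
    {A0 k : ℕ} {cands : List (List ℕ)} (hchk : enumOK t1 t2 F A0 k cands = true)
    (hgn : g * tabPermD t1 = tabPermD t2 * g) (hF : ∀ p ∈ F, g (pt p) = pt p) :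
    ∃ t ∈ cands, g = tabPermD t := by
  unfold enumOK at hchk
  simp only [Bool.and_eq_true, decide_eq_true_eq, List.all_eq_true, Bool.not_eq_true',
    Bool.or_eq_true, List.any_eq_true, beq_iff_eq, List.mem_range, beq_eq_false_iff_ne,
    List.contains_eq_mem, decide_eq_false_iff_not] at hchk
  obtain ⟨⟨⟨⟨⟨⟨⟨⟨⟨hv1, hv2⟩, htup⟩, hA24⟩, hAd⟩, hAF⟩, hA1⟩, hF24⟩, hc⟩, hcov⟩ := hchk
  have hgn' : ∀ p, g (tabPermD t1 p) = tabPermD t2 (g p) := fun p =>
    congrArg (fun σ : Equiv.Perm GolayPt => σ p) hgn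
  have hc24 : idx (g (pt A0)) < 24 := idx_lt _
  have hcd : dM.testBit (idx (g (pt A0))) = true :=
    mem_sqD.1 (apply_mem_sqD hg (mem_sqD.2 (by rw [idx_pt hA24]; exact hAd)))
  have hcF : idx (g (pt A0)) ∉ F := by
    intro h
    have h1 := hF _ h
    rw [pt_idx] at h1
    have h2 : g (pt A0) = pt A0 := g.injective h1
    have h3 : idx (g (pt A0)) = A0 := by rw [h2, idx_pt hA24]
    rw [h3] at h
    exact hAF h
  have hc2 : t2.getD (idx (g (pt A0))) 0 ≠ idx (g (pt A0)) := by
    intro h
    have h1 := hgn' (pt A0)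
    rw [tabPermD_pt hv1 hA24] at h1
    have h2 : tabPermD t2 (g (pt A0)) = g (pt A0) := by
      conv_lhs => rw [← pt_idx (g (pt A0))]
      rw [tabPermD_pt hv2 hc24, h, pt_idx]
    rw [h2] at h1
    exact hA1 (pt_inj (getD_lt hv1 hA24) hA24 (g.injective h1))
  rcases hcov _ hc24 with ((h | h) | h) | h
  · rw [hcd] at h; exact absurd h (by decide)
  · exact absurd h hcF
  · exact absurd h hc2
  · obtain ⟨t, ht, hag⟩ := h
    refine ⟨t, ht, ?_⟩
    have hm := (hc t ht).1
    have hvt : tabValid t = true := by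
      unfold m12Tab at hm
      simp only [Bool.and_eq_true] at hm
      exact hm.1
    have key : ∀ j, g (pt (itab t1 j A0)) = pt (itab t2 j (idx (g (pt A0)))) := by
      intro j
      induction j with
      | zero => show g (pt A0) = pt (idx (g (pt A0))); rw [pt_idx]
      | succ j ih =>
        show g (pt (t1.getD (itab t1 j A0) 0)) = pt (t2.getD (itab t2 j (idx (g (pt A0)))) 0)
        rw [← tabPermD_pt hv1 (itab_lt hv1 hA24 j), hgn', ih,
          tabPermD_pt hv2 (itab_lt hv2 hc24 j)]
    apply eq_of_agree5 hg (tabPermD_mem_M12 hm) _ htup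
    intro p hp
    rcases List.mem_append.1 hp with hp | hp
    · rw [hF p hp, tabPermD_pt hvt (hF24 p hp), (hc t ht).2 p hp]
    · obtain ⟨j, hj, rfl⟩ := List.mem_map.1 hp
      rw [key j, tabPermD_pt hvt (itab_lt hv1 hA24 j), hag j (List.mem_range.1 hj)]

/-! ### generation by a chain of transversals -/

/-- the table of a word in the letters `lets` -/
def wtab (lets : List (List ℕ)) (w : List ℕ) : List ℕ :=
  tabProd (w.map (fun l => lets.getD l []))

/-- the check behind `chain_sound`: at each level the listed words fix the earlier base points and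
move the new base point to every other point of the dodecad -/
def chainOK (lets : List (List ℕ)) : List ℕ → List (ℕ × List (List ℕ)) → Bool
  | _, [] => true
  | F, (b, W) :: rest =>
      decide (b < 24) && dM.testBit b && !(F.contains b) &&
      W.all (fun w => prodValid (w.map (fun l => lets.getD l [])) && tabValid (wtab lets w) &&
        F.all (fun p => (wtab lets w).getD p 0 == p)) &&
      (List.range 24).all (fun q => !(dM.testBit q) || F.contains q ||
        W.any (fun w => (wtab lets w).getD b 0 == q)) &&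
      chainOK lets (b :: F) rest

theorem tabPermD_nil : tabPermD [] = 1 := by
  unfold tabPermD
  rw [dif_neg (by decide)]

theorem wtab_mem (K : Subgroup (Equiv.Perm GolayPt)) (lets : List (List ℕ))
    (hlets : ∀ t ∈ lets, tabPermD t ∈ K) (w : List ℕ)
    (hw : prodValid (w.map (fun l => lets.getD l [])) = true) : tabPermD (wtab lets w) ∈ K := by
  unfold wtab
  rw [← prod_tabPermD hw]
  apply Subgroup.list_prod_mem
  intro y hy
  simp only [List.map_map, List.mem_map, Function.comp] at hy
  obtain ⟨l, -, rfl⟩ := hy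
  by_cases hl : l < lets.length
  · rw [List.getD_eq_getElem _ _ hl]
    exact hlets _ (List.getElem_mem hl)
  · rw [List.getD_eq_default _ _ (by omega), tabPermD_nil]
    exact Subgroup.one_mem K

theorem chain_sound (K : Subgroup (Equiv.Perm GolayPt)) (hK : K ≤ Spor.M12)
    (lets : List (List ℕ)) (hlets : ∀ t ∈ lets, tabPermD t ∈ K) :
    ∀ (levels : List (ℕ × List (List ℕ))) (F : List ℕ), chainOK lets F levels = true →
      (∀ p ∈ F, p < 24) → ∀ g ∈ Spor.M12, (∀ p ∈ F, g (pt p) = pt p) →
        ∃ u ∈ K, ∀ p ∈ (levels.map Prod.fst).reverse ++ F, (u⁻¹ * g) (pt p) = pt p := by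
  intro levels
  induction levels with
  | nil =>
    intro F _ _ g _ hF
    exact ⟨1, Subgroup.one_mem K, fun p hp => by simpa using hF p (by simpa using hp)⟩
  | cons lv rest ih =>
    obtain ⟨b, W⟩ := lv
    intro F hchk hF24 g hg hF
    unfold chainOK at hchk
    simp only [Bool.and_eq_true, decide_eq_true_eq, List.all_eq_true, Bool.not_eq_true',
      Bool.or_eq_true, List.any_eq_true, beq_iff_eq, List.mem_range,
      List.contains_eq_mem, decide_eq_false_iff_not] at hchk
    obtain ⟨⟨⟨⟨⟨hb24, hbd⟩, hbF⟩, hW⟩, hcov⟩, hrest⟩ := hchk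
    have hq24 : idx (g (pt b)) < 24 := idx_lt _
    have hqd : dM.testBit (idx (g (pt b))) = true :=
      mem_sqD.1 (apply_mem_sqD hg (mem_sqD.2 (by rw [idx_pt hb24]; exact hbd)))
    have hqF : idx (g (pt b)) ∉ F := by
      intro h
      have h1 := hF _ h
      rw [pt_idx] at h1
      have h2 : g (pt b) = pt b := g.injective h1
      have h3 : idx (g (pt b)) = b := by rw [h2, idx_pt hb24]
      rw [h3] at h
      exact hbF h
    rcases hcov _ hq24 with (h | h) | h
    · rw [hqd] at h; exact absurd h (by decide)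
    · exact absurd h hqF
    · obtain ⟨w, hw, hwq⟩ := h
      obtain ⟨⟨hpv, hvt⟩, hfix⟩ := hW w hw
      have hu1 : tabPermD (wtab lets w) ∈ K := wtab_mem K lets hlets w hpv
      have hub : tabPermD (wtab lets w) (pt b) = g (pt b) := by
        rw [tabPermD_pt hvt hb24, hwq, pt_idx]
      have hg1 : (tabPermD (wtab lets w))⁻¹ * g ∈ Spor.M12 :=
        Subgroup.mul_mem _ (Subgroup.inv_mem _ (hK hu1)) hg
      have hF1 : ∀ p ∈ b :: F, ((tabPermD (wtab lets w))⁻¹ * g) (pt p) = pt p := by
        intro p hp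
        show (tabPermD (wtab lets w))⁻¹ (g (pt p)) = pt p
        rw [Equiv.Perm.inv_eq_iff_eq]
        rcases List.mem_cons.1 hp with rfl | hp
        · exact hub.symm
        · rw [hF p hp, tabPermD_pt hvt (hF24 p hp), hfix p hp]
      have hF24' : ∀ p ∈ b :: F, p < 24 := by
        intro p hp
        rcases List.mem_cons.1 hp with rfl | hp
        · exact hb24
        · exact hF24 p hp
      obtain ⟨u2, hu2, h2⟩ := ih (b :: F) hrest hF24' _ hg1 hF1
      refine ⟨tabPermD (wtab lets w) * u2, Subgroup.mul_mem _ hu1 hu2, fun p hp => ?_⟩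
      have e : (tabPermD (wtab lets w) * u2)⁻¹ * g = u2⁻¹ * ((tabPermD (wtab lets w))⁻¹ * g) := by
        rw [mul_inv_rev, mul_assoc]
      rw [e]
      apply h2
      simpa [List.map_cons, List.reverse_cons, List.append_assoc] using hp

/-- if the chain check passes with five base points in all, the letters generate -/
theorem mem_of_chain (K : Subgroup (Equiv.Perm GolayPt)) (hK : K ≤ Spor.M12)
    (lets : List (List ℕ)) (hlets : ∀ t ∈ lets, tabPermD t ∈ K)
    (levels : List (ℕ × List (List ℕ))) (F : List ℕ) (hchk : chainOK lets F levels = true)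
    (htup : tupOK ((levels.map Prod.fst).reverse ++ F) = true)
    {g : Equiv.Perm GolayPt} (hg : g ∈ Spor.M12) (hF : ∀ p ∈ F, g (pt p) = pt p) : g ∈ K := by
  have hF24 : ∀ p ∈ F, p < 24 := by
    intro p hp
    unfold tupOK at htup
    simp only [Bool.and_eq_true, decide_eq_true_eq, List.all_eq_true] at htup
    exact (htup.2 p (List.mem_append_right _ hp)).1
  obtain ⟨u, hu, h⟩ := chain_sound K hK lets hlets levels F hchk hF24 g hg hF
  have h1 : u⁻¹ * g = 1 :=
    eq_of_agree5 (Subgroup.mul_mem _ (Subgroup.inv_mem _ (hK hu)) hg) (Subgroup.one_mem _) _ htup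
      (fun p hp => by rw [h p hp]; rfl)
  rw [← inv_mul_eq_one.1 h1]
  exact hu

/-! ### further helpers -/

theorem valid_of_m12Tab {t : List ℕ} (h : m12Tab t = true) : tabValid t = true := by
  unfold m12Tab at h
  simp only [Bool.and_eq_true] at h
  exact h.1

/-- order of an element given by a table -/
theorem orderOf_tab {H : Subgroup (Equiv.Perm GolayPt)} (a : H) (t : List ℕ)
    (ha : (a : Equiv.Perm GolayPt) = tabPermD t) (p : ℕ) [Fact p.Prime]
    (h1 : prodValid (List.replicate p t) = true)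
    (h2 : tabProd (List.replicate p t) = List.range 24)
    (hv : tabValid t = true) (j : ℕ) (hj : j < 24) (hne : t.getD j 0 ≠ j) : orderOf a = p := by
  apply orderOf_eq_prime
  · apply Subtype.ext
    rw [Subgroup.coe_pow, ha, pow_tab t p h1, h2, tabPermD_one]; rfl
  · intro e
    have h3 := congrArg Subtype.val e
    rw [ha] at h3
    exact tabPermD_ne_one hv j hj hne h3

/-- conjugation by a permutation normalising a subgroup, as an automorphism of the subgroup -/
def conjAut (H : Subgroup (Equiv.Perm GolayPt)) (w : Equiv.Perm GolayPt)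
    (h1 : ∀ g ∈ H, w * g * w⁻¹ ∈ H) (h2 : ∀ g ∈ H, w⁻¹ * g * w ∈ H) : MulAut H where
  toFun := fun g => ⟨w * g.1 * w⁻¹, h1 g.1 g.2⟩
  invFun := fun g => ⟨w⁻¹ * g.1 * w, h2 g.1 g.2⟩
  left_inv := fun g => Subtype.ext (by simp [mul_assoc])
  right_inv := fun g => Subtype.ext (by simp [mul_assoc])
  map_mul' := fun a b => Subtype.ext (by simp [mul_assoc])

theorem conjAut_apply (H : Subgroup (Equiv.Perm GolayPt)) (w : Equiv.Perm GolayPt)
    (h1 : ∀ g ∈ H, w * g * w⁻¹ ∈ H) (h2 : ∀ g ∈ H, w⁻¹ * g * w ∈ H) (g : H) :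
    ((conjAut H w h1 h2 g : H) : Equiv.Perm GolayPt) = w * g.1 * w⁻¹ := rfl

/-- an element of `M24` interchanging the dodecad of squares and its complement normalises
`M12` -/
theorem conj_mem_M12 {w : Equiv.Perm GolayPt} (hw : w ∈ M24)
    (hwd : ∀ p, w p ∈ Spor.squareDodecad ↔ p ∉ Spor.squareDodecad) :
    (∀ g ∈ Spor.M12, w * g * w⁻¹ ∈ Spor.M12) ∧ (∀ g ∈ Spor.M12, w⁻¹ * g * w ∈ Spor.M12) := by
  have hwd' : ∀ q, w⁻¹ q ∈ Spor.squareDodecad ↔ q ∉ Spor.squareDodecad := by
    intro q
    have := hwd (w⁻¹ q)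
    have e : w (w⁻¹ q) = q := by simp
    rw [e] at this
    tauto
  constructor
  · intro g hg
    obtain ⟨hg24, hgd⟩ := mem_M12_iff'.1 hg
    refine mem_M12_iff'.2 ⟨Subgroup.mul_mem _ (Subgroup.mul_mem _ hw hg24) (Subgroup.inv_mem _ hw),
      fun p => ?_⟩
    show w (g (w⁻¹ p)) ∈ Spor.squareDodecad ↔ p ∈ Spor.squareDodecad
    rw [hwd, hgd, hwd']
    tauto
  · intro g hg
    obtain ⟨hg24, hgd⟩ := mem_M12_iff'.1 hg
    refine mem_M12_iff'.2 ⟨Subgroup.mul_mem _ (Subgroup.mul_mem _ (Subgroup.inv_mem _ hw) hg24) hw,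
      fun p => ?_⟩
    show w⁻¹ (g (w p)) ∈ Spor.squareDodecad ↔ p ∈ Spor.squareDodecad
    rw [hwd', hgd, hwd]
    tauto

/-- the closure of two elements of a subgroup, seen inside the subgroup, is everything as soon as
every element of the subgroup lies in the closure of their values -/
theorem closure_eq_top_of {H : Subgroup (Equiv.Perm GolayPt)} (a c : H)
    (h : ∀ g ∈ H, g ∈ Subgroup.closure {(a : Equiv.Perm GolayPt), (c : Equiv.Perm GolayPt)}) :
    Subgroup.closure {a, c} = ⊤ := by
  rw [eq_top_iff]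
  intro g _
  have h1 := h g.1 g.2
  have h2 : Subgroup.closure {(a : Equiv.Perm GolayPt), (c : Equiv.Perm GolayPt)} =
      (Subgroup.closure {a, c}).map H.subtype := by
    rw [MonoidHom.map_closure]
    congr 1
    ext y
    simp [Set.image_pair]
  rw [h2] at h1
  obtain ⟨y, hy, e⟩ := Subgroup.mem_map.1 h1
  have : y = g := Subtype.ext e
  rw [← this]; exact hy

end Cfsg.Agent.Lib.Helper27.MT
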