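import Cfsg.Agent.Lib.Helper7.GolayOctad

set_option autoImplicit false

open scoped Pointwise

namespace Cfsg.Agent.Lib.Helper27.OO

open Cfsg.Agent.Lib.Helper7

/-- Preimage of a bitmask under the permutation with packed table `t`. -/
def preT (t m : ℕ) : ℕ := ofBits (fun i => m.testBit (nlane t i)) 24

theorem preT_lt (t m : ℕ) : preT t m < 2 ^ 24 := ofBits_lt _ _

theorem setOf_preT {σ : Equiv.Perm Cfsg.GolayPt} {t : ℕ} (h : RepT σ t) (m : ℕ) :
    setOf (preT t m) = σ⁻¹ • setOf m := by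
  ext p
  rw [Finset.mem_inv_smul_finset_iff, mem_setOf, mem_setOf, preT, testBit_ofBits,
    Equiv.Perm.smul_def, h p, idx_pt (nlane_lt _ _)]
  simp [idx_lt p]

theorem isCode_enc (k : ℕ) : isCode (enc k) = true :=
  (wordOf_mem_golayCode_iff (enc_lt k)).mp (wordOf_enc_mem k)

theorem preT_enc {σ : Equiv.Perm Cfsg.GolayPt} {t : ℕ} (h : RepT σ t) (hσ : σ ∈ Cfsg.M24)
    (k : ℕ) : enc (preT t (enc k) >>> 12) = preT t (enc k) := by
  have h1 : setOf (enc k) ∈ golaySupports := setOf_mem_golaySupports (enc_lt k) (isCode_enc k)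
  have h2 := smul_mem_golaySupports (Cfsg.M24.inv_mem hσ) h1
  rw [← setOf_preT h] at h2
  obtain ⟨k', hk', h3⟩ := exists_mask_of_mem_golaySupports h2
  have h4 := setOf_injective (preT_lt _ _) (enc_lt k') h3
  rw [h4, enc_shift k' hk']

/-- One step of a reachability certificate: from the known code word with information bits
`s.1` apply the inverse of the generator number `s.2`. -/
def stepF (T : List ℕ) (K : ℕ) (s : ℕ × ℕ) : ℕ :=
  if K.testBit s.1 then K ||| 2 ^ (preT (T.getD s.2 idT) (enc s.1) >>> 12) else K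

/-- The set (as a bitmap over information words) reached by a certificate. -/
def reach (T : List ℕ) (steps : List (ℕ × ℕ)) (K : ℕ) : ℕ := steps.foldl (stepF T) K

theorem reach_append (T : List ℕ) (s1 s2 : List (ℕ × ℕ)) (K : ℕ) :
    reach T (s1 ++ s2) K = reach T s2 (reach T s1 K) := by
  unfold reach
  rw [List.foldl_append]

theorem reach_sound (S : Subgroup (Equiv.Perm Cfsg.GolayPt)) (hS : S ≤ Cfsg.M24)
    {L : List (Equiv.Perm Cfsg.GolayPt)} {T : List ℕ} (hrep : List.Forall₂ RepT L T)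
    (hL : ∀ σ ∈ L, σ ∈ S) (s0 : Finset Cfsg.GolayPt) (steps : List (ℕ × ℕ)) (K : ℕ)
    (hK : ∀ k, K.testBit k = true → ∃ u ∈ S, u • s0 = setOf (enc k)) :
    ∀ k, (reach T steps K).testBit k = true → ∃ u ∈ S, u • s0 = setOf (enc k) := by
  induction steps generalizing K with
  | nil => exact hK
  | cons s steps ih =>
    rw [reach, List.foldl_cons]
    apply ih
    intro k hk
    unfold stepF at hk
    split at hk
    · rename_i hpar
      rw [Nat.testBit_or, Bool.or_eq_true] at hk
      rcases hk with hk | hk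
      · exact hK k hk
      · rw [Nat.testBit_two_pow] at hk
        have hk' : preT (T.getD s.2 idT) (enc s.1) >>> 12 = k := by simpa using hk
        obtain ⟨u, hu, hus⟩ := hK s.1 hpar
        have hσ := getD_mem_subgroup S hL s.2
        have hR := repT_getD hrep s.2
        refine ⟨(L.getD s.2 1)⁻¹ * u, S.mul_mem (S.inv_mem hσ) hu, ?_⟩
        rw [mul_smul, hus, ← setOf_preT hR, ← hk', preT_enc hR (hS hσ)]
    · exact hK k hk

theorem orbit_of_reach (S : Subgroup (Equiv.Perm Cfsg.GolayPt)) (hS : S ≤ Cfsg.M24)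
    {L : List (Equiv.Perm Cfsg.GolayPt)} {T : List ℕ} (hrep : List.Forall₂ RepT L T)
    (hL : ∀ σ ∈ L, σ ∈ S) (k0 : ℕ) (steps : List (ℕ × ℕ)) {k : ℕ}
    (h : (reach T steps (2 ^ k0)).testBit k = true) :
    ∃ u ∈ S, u • setOf (enc k0) = setOf (enc k) := by
  refine reach_sound S hS hrep hL _ steps (2 ^ k0) ?_ k h
  intro k hk
  rw [Nat.testBit_two_pow] at hk
  have : k0 = k := by simpa using hk
  subst this
  exact ⟨1, S.one_mem, one_smul _ _⟩

theorem octad_exists_enc {o : Finset Cfsg.GolayPt} (ho : o ∈ Cfsg.octads) :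
    ∃ k < 4096, o = setOf (enc k) ∧ popc (enc k) = 8 := by
  obtain ⟨k, hk, rfl⟩ := exists_mask_of_mem_golaySupports ho.1
  exact ⟨k, hk, rfl, by rw [← card_setOf]; exact ho.2⟩

theorem setOf_enc_mem_octads {k : ℕ} (h : popc (enc k) = 8) : setOf (enc k) ∈ Cfsg.octads :=
  ⟨setOf_mem_golaySupports (enc_lt k) (isCode_enc k), by rw [card_setOf, h]⟩

/-- Transitivity on classes of octads from reachability certificates: the octads with the
incidence property `Inc` meeting `setOf R` in the same number of points are conjugate under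
`S`. -/
theorem trans_of_cover (S : Subgroup (Equiv.Perm Cfsg.GolayPt)) (hS : S ≤ Cfsg.M24)
    {L : List (Equiv.Perm Cfsg.GolayPt)} {T : List ℕ} (hrep : List.Forall₂ RepT L T)
    (hL : ∀ σ ∈ L, σ ∈ S) (Inc : Finset Cfsg.GolayPt → Prop) (inc : ℕ → Bool)
    (hInc : ∀ k, Inc (setOf (enc k)) → inc (enc k) = true)
    (R : ℕ) (cs : List ℕ) (root : ℕ → ℕ) (steps : ℕ → List (ℕ × ℕ)) (B : ℕ → ℕ)
    (hreach : ∀ c ∈ cs, reach T (steps c) (2 ^ root c) = B c)
    (hcov : (List.range 4096).all (fun k => popc (enc k) != 8 || !inc (enc k) ||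
      (decide (popc (R &&& enc k) ∈ cs) && (B (popc (R &&& enc k))).testBit k)) = true)
    {o' o'' : Finset Cfsg.GolayPt} (ho' : o' ∈ Cfsg.octads) (ho'' : o'' ∈ Cfsg.octads)
    (hi' : Inc o') (hi'' : Inc o'') (hc : (setOf R ∩ o').card = (setOf R ∩ o'').card) :
    ∃ u ∈ S, u • o' = o'' := by
  obtain ⟨k', hk', rfl, h8'⟩ := octad_exists_enc ho'
  obtain ⟨k'', hk'', rfl, h8''⟩ := octad_exists_enc ho''
  rw [setOf_inter, setOf_inter, card_setOf, card_setOf] at hc
  have key : ∀ k < 4096, popc (enc k) = 8 → Inc (setOf (enc k)) →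
      ∃ u ∈ S, u • setOf (enc (root (popc (R &&& enc k)))) = setOf (enc k) := by
    intro k hk h8 hi
    have h1 := all_range hcov k hk
    rw [h8, hInc k hi] at h1
    simp only [bne_self_eq_false, Bool.not_true, Bool.false_or, Bool.and_eq_true,
      decide_eq_true_eq] at h1
    obtain ⟨hmem, hbit⟩ := h1
    rw [← hreach _ hmem] at hbit
    exact orbit_of_reach S hS hrep hL _ _ hbit
  obtain ⟨u', hu', hus'⟩ := key k' hk' h8' hi'
  obtain ⟨u'', hu'', hus''⟩ := key k'' hk'' h8'' hi''
  rw [← hc] at hus''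
  refine ⟨u'' * u'⁻¹, S.mul_mem hu'' (S.inv_mem hu'), ?_⟩
  rw [mul_smul, ← hus', inv_smul_smul, hus'']

/-- Counting octads with a property through the information words. -/
theorem ncard_octads_and (P : Finset Cfsg.GolayPt → Prop) (q : ℕ → Bool)
    (hPq : ∀ k, P (setOf (enc k)) ↔ q (enc k) = true) :
    {o : Finset Cfsg.GolayPt | o ∈ Cfsg.octads ∧ P o}.ncard =
      ((Finset.range 4096).filter (fun k => popc (enc k) = 8 ∧ q (enc k) = true)).card := by
  have hset : {o : Finset Cfsg.GolayPt | o ∈ Cfsg.octads ∧ P o} =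
      (((Finset.range 4096).filter (fun k => popc (enc k) = 8 ∧ q (enc k) = true)).image
        (fun k => setOf (enc k)) : Finset (Finset Cfsg.GolayPt)) := by
    ext o
    simp only [Set.mem_ofPred_eq, Finset.coe_image, Finset.coe_filter, Finset.mem_range,
      Set.mem_image]
    constructor
    · rintro ⟨ho, hP⟩
      obtain ⟨k, hk, rfl, h8⟩ := octad_exists_enc ho
      exact ⟨k, ⟨hk, h8, (hPq k).mp hP⟩, rfl⟩
    · rintro ⟨k, ⟨hk, h8, hq⟩, rfl⟩
      exact ⟨setOf_enc_mem_octads h8, (hPq k).mpr hq⟩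
  rw [hset, Set.ncard_coe_finset, Finset.card_image_of_injOn]
  intro k hk l hl h
  simp only [Finset.coe_filter, Finset.mem_range, Set.mem_ofPred_eq] at hk hl
  have := setOf_injective (enc_lt k) (enc_lt l) h
  rw [← enc_shift k hk.1, ← enc_shift l hl.1, this]

/-- Cardinalities of families of sets are invariant under a permutation of the points. -/
theorem ncard_transport (g : Equiv.Perm Cfsg.GolayPt) (P P' : Finset Cfsg.GolayPt → Prop)
    (h : ∀ o, P o ↔ P' (g • o)) :
    {o : Finset Cfsg.GolayPt | P o}.ncard = {o : Finset Cfsg.GolayPt | P' o}.ncard := by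
  have : {o : Finset Cfsg.GolayPt | P' o} =
      (fun o : Finset Cfsg.GolayPt => g • o) '' {o : Finset Cfsg.GolayPt | P o} := by
    ext o
    simp only [Set.mem_ofPred_eq, Set.mem_image]
    constructor
    · intro ho
      exact ⟨g⁻¹ • o, (h _).mpr (by rwa [smul_inv_smul]), smul_inv_smul g o⟩
    · rintro ⟨o', ho', rfl⟩
      exact (h o').mp ho'
  rw [this, Set.ncard_image_of_injective _ (MulAction.injective g)]

theorem smul_mem_octads_iff {g : Equiv.Perm Cfsg.GolayPt} (hg : g ∈ Cfsg.M24)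
    (o : Finset Cfsg.GolayPt) : g • o ∈ Cfsg.octads ↔ o ∈ Cfsg.octads := by
  constructor
  · intro h
    have := smul_mem_octads (Cfsg.M24.inv_mem hg) h
    rwa [inv_smul_smul] at this
  · exact smul_mem_octads hg

theorem apply_mem_smul_iff (g : Equiv.Perm Cfsg.GolayPt) (x : Cfsg.GolayPt)
    (o : Finset Cfsg.GolayPt) : g x ∈ g • o ↔ x ∈ o := by
  rw [← Equiv.Perm.smul_def, Finset.smul_mem_smul_finset_iff]

theorem card_smul_inter (g : Equiv.Perm Cfsg.GolayPt) (o o' : Finset Cfsg.GolayPt) :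
    (g • o ∩ g • o').card = (o ∩ o').card := by
  rw [← Finset.smul_finset_inter, Finset.card_smul_finset]

theorem pt_mem_setOf {i : ℕ} (hi : i < 24) (m : ℕ) : pt i ∈ setOf m ↔ m.testBit i = true := by
  rw [mem_setOf, idx_pt hi]

/-- The words of a list, as permutations, are represented by their tables. -/
theorem words_rep (ws : List (List ℕ)) :
    List.Forall₂ RepT (ws.map (evalW letters)) (ws.map (evalT ltabs)) := by
  induction ws with
  | nil => exact List.Forall₂.nil
  | cons w ws ih => exact List.Forall₂.cons (repT_evalW letters_rep w) ih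

/-- The group generated by a list of words in the letters. -/
noncomputable def wordsGrp (ws : List (List ℕ)) : Subgroup (Equiv.Perm Cfsg.GolayPt) :=
  Subgroup.closure {σ | σ ∈ ws.map (evalW letters)}

theorem words_mem (ws : List (List ℕ)) : ∀ σ ∈ ws.map (evalW letters), σ ∈ wordsGrp ws :=
  fun _ h => Subgroup.subset_closure h

/-- The group generated by words whose tables fix the points of `F` and the set of `R`. -/
theorem wordsGrp_le (ws : List (List ℕ)) (F R : ℕ)
    (hchk : (ws.map (evalT ltabs)).all (fun t => fixesT t F && preT t R == R) = true) :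
    wordsGrp ws ≤ fixSub F ⊓ MulAction.stabilizer (Equiv.Perm Cfsg.GolayPt) (setOf R) := by
  rw [wordsGrp, Subgroup.closure_le]
  intro σ hσ
  obtain ⟨w, hw, rfl⟩ := List.mem_map.mp hσ
  have h1 := List.all_eq_true.mp hchk (evalT ltabs w) (List.mem_map.mpr ⟨w, hw, rfl⟩)
  rw [Bool.and_eq_true, beq_iff_eq] at h1
  have hR := repT_evalW letters_rep w
  have hm : evalW letters w ∈ Cfsg.M24 := evalW_mem _ letters_mem_M24 w
  have h2 := setOf_preT hR R
  rw [h1.2, eq_inv_smul_iff] at h2
  exact Subgroup.mem_inf.mpr ⟨mem_fixSub_of_fixesT hR hm h1.1, MulAction.mem_stabilizer_iff.mpr h2⟩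

theorem fixSub_apply {F : ℕ} {u : Equiv.Perm Cfsg.GolayPt} (hu : u ∈ fixSub F) {i : ℕ}
    (hi : i < 24) (hF : F.testBit i = true) : u (pt i) = pt i := hu.2 i hi hF

/-- First level: the stabiliser of the base points is transitive on the octads with the
incidence property. -/
theorem level1_of (idxs : List ℕ) (F R : ℕ) (Inc : Finset Cfsg.GolayPt → Prop) (inc : ℕ → Bool)
    (hInc : ∀ m, Inc (setOf m) ↔ inc m = true)
    (T1 : List ℕ) (steps1 : List (ℕ × ℕ)) (B1 rootk : ℕ)
    (hfix : idxs.all (fun l => fixesT (ltabs.getD l idT) F) = true)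
    (hT1 : selT idxs = T1) (hroot : enc rootk = R)
    (hreach1 : reach T1 steps1 (2 ^ rootk) = B1)
    (hcov1 : (List.range 4096).all
      (fun k => popc (enc k) != 8 || !inc (enc k) || B1.testBit k) = true)
    {o : Finset Cfsg.GolayPt} (ho : o ∈ Cfsg.octads) (hi : Inc o) :
    ∃ u ∈ fixSub F, u • o = setOf R := by
  obtain ⟨k, hk, rfl, h8⟩ := octad_exists_enc ho
  have h1 := all_range hcov1 k hk
  rw [h8, (hInc _).mp hi] at h1
  simp only [bne_self_eq_false, Bool.not_true, Bool.false_or] at h1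
  rw [← hreach1] at h1
  have hrep := sel_rep idxs
  rw [hT1] at hrep
  obtain ⟨u, hu, hus⟩ := orbit_of_reach (selGrp idxs)
    ((selGrp_le_fixSub hfix).trans (fixSub_le_M24 F)) hrep (sel_mem_selGrp idxs) rootk steps1 h1
  refine ⟨u⁻¹, (fixSub F).inv_mem (selGrp_le_fixSub hfix hu), ?_⟩
  rw [← hus, inv_smul_smul, hroot]

/-- Second level: the stabiliser of the base points and the base octad is transitive on the
octads with the incidence property meeting the base octad in a given number of points. -/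
theorem level2_of (ws : List (List ℕ)) (F R : ℕ) (Inc : Finset Cfsg.GolayPt → Prop)
    (inc : ℕ → Bool) (hInc : ∀ m, Inc (setOf m) ↔ inc m = true)
    (T2 : List ℕ) (cs : List ℕ) (root : ℕ → ℕ) (steps : ℕ → List (ℕ × ℕ)) (B : ℕ → ℕ)
    (hT2 : ws.map (evalT ltabs) = T2)
    (hchk : T2.all (fun t => fixesT t F && preT t R == R) = true)
    (hreach : ∀ c ∈ cs, reach T2 (steps c) (2 ^ root c) = B c)
    (hcov : (List.range 4096).all (fun k => popc (enc k) != 8 || !inc (enc k) ||
      (decide (popc (R &&& enc k) ∈ cs) && (B (popc (R &&& enc k))).testBit k)) = true)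
    {o' o'' : Finset Cfsg.GolayPt} (ho' : o' ∈ Cfsg.octads) (ho'' : o'' ∈ Cfsg.octads)
    (hi' : Inc o') (hi'' : Inc o'') (hc : (setOf R ∩ o').card = (setOf R ∩ o'').card) :
    ∃ u ∈ fixSub F ⊓ MulAction.stabilizer (Equiv.Perm Cfsg.GolayPt) (setOf R), u • o' = o'' := by
  have hle := wordsGrp_le ws F R (hT2 ▸ hchk)
  have hrep := words_rep ws
  rw [hT2] at hrep
  obtain ⟨u, hu, h⟩ := trans_of_cover (wordsGrp ws)
    (hle.trans (inf_le_left.trans (fixSub_le_M24 F))) hrep (words_mem ws) Inc inc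
    (fun k h => (hInc _).mp h) R cs root steps B hreach hcov ho' ho'' hi' hi'' hc
  exact ⟨u, hle hu, h⟩

/-- Counting the octads of a class. -/
theorem count_class (Inc : Finset Cfsg.GolayPt → Prop) (inc : ℕ → Bool)
    (hInc : ∀ m, Inc (setOf m) ↔ inc m = true) (R c : ℕ) :
    {o' : Finset Cfsg.GolayPt | o' ∈ Cfsg.octads ∧ Inc o' ∧ (setOf R ∩ o').card = c}.ncard =
      ((Finset.range 4096).filter (fun k => popc (enc k) = 8 ∧
        (inc (enc k) && popc (R &&& enc k) == c) = true)).card := by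
  refine ncard_octads_and (fun o' => Inc o' ∧ (setOf R ∩ o').card = c)
    (fun m => inc m && popc (R &&& m) == c) ?_
  intro k
  rw [hInc, setOf_inter, card_setOf, Bool.and_eq_true, beq_iff_eq]

theorem conj_smul (g u : Equiv.Perm Cfsg.GolayPt) (s t : Finset Cfsg.GolayPt)
    (h : u • (g • s) = g • t) : (g⁻¹ * u * g) • s = t := by
  rw [mul_smul, mul_smul, h, inv_smul_smul]

theorem conj_apply (g u : Equiv.Perm Cfsg.GolayPt) (x : Cfsg.GolayPt) (h : u (g x) = g x) :
    (g⁻¹ * u * g) x = x := by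
  rw [Equiv.Perm.mul_apply, Equiv.Perm.mul_apply, h]
  simp

theorem exists_map1 (x y : Cfsg.GolayPt) : ∃ g ∈ Cfsg.M24, g x = y := by
  obtain ⟨g, hg, h⟩ := M24_exists_smul_eq (n := 1) (by norm_num)
    ⟨fun _ => x, fun i j _ => Subsingleton.elim i j⟩ ⟨fun _ => y, fun i j _ => Subsingleton.elim i j⟩
  exact ⟨g, hg, h 0⟩

theorem exists_map2 {p q p' q' : Cfsg.GolayPt} (hpq : p ≠ q) (hpq' : p' ≠ q') :
    ∃ g ∈ Cfsg.M24, g p = p' ∧ g q = q' := by
  have inj : ∀ a b : Cfsg.GolayPt, a ≠ b → Function.Injective ![a, b] := by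
    intro a b hab i j h
    fin_cases i <;> fin_cases j <;> simp_all
  obtain ⟨g, hg, h⟩ := M24_exists_smul_eq (n := 2) (by norm_num)
    ⟨![p, q], inj p q hpq⟩ ⟨![p', q'], inj p' q' hpq'⟩
  exact ⟨g, hg, h 0, h 1⟩

end Cfsg.Agent.Lib.Helper27.OO
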