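import Mathlib
import Cfsg.Prelude.Def_KGroupFacts
import Cfsg.Agent.Lib.Helper27.M12Tab
import Cfsg.Agent.Lib.Helper27.AutTower2

set_option autoImplicit false

/-! # The outer automorphism group of `M11` is trivial -/

namespace Cfsg.Agent.Lib.Helper27.OutM11

open Cfsg Cfsg.Agent.Lib.Helper6.Golay Cfsg.Agent.Lib.Helper6.M24 Cfsg.Agent.Lib.Helper6.M12
  Cfsg.Agent.Lib.Helper86 Cfsg.Agent.Lib.Helper27.MT Cfsg.Agent.Lib.Helper27

def tx : List ℕ := [0, 16, 3, 8, 13, 5, 1, 20, 12, 2, 7, 19, 4, 6, 11, 21, 18, 23, 9, 10, 17, 14, 15, 22]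
def tn : List ℕ := [0, 9, 4, 16, 18, 5, 6, 21, 3, 2, 17, 15, 13, 8, 20, 22, 12, 23, 1, 19, 10, 11, 7, 14]
def tn2 : List ℕ := [0, 2, 18, 12, 1, 5, 6, 11, 16, 4, 23, 22, 8, 3, 10, 7, 13, 14, 9, 19, 17, 15, 21, 20]
def tv : List ℕ := [0, 4, 2, 8, 18, 19, 6, 10, 12, 1, 15, 20, 13, 3, 22, 17, 16, 7, 9, 5, 21, 23, 14, 11]
def Rl : List (List ℕ) := [[0, 4, 2, 8, 18, 19, 6, 10, 12, 1, 15, 20, 13, 3, 22, 17, 16, 7, 9, 5, 21, 23, 14, 11], [0, 2, 9, 13, 4, 19, 6, 20, 16, 18, 11, 14, 12, 8, 15, 10, 3, 22, 1, 5, 7, 17, 23, 21], [0, 9, 1, 12, 2, 19, 6, 14, 3, 4, 21, 23, 16, 13, 11, 20, 8, 15, 18, 5, 22, 10, 17, 7], [0, 1, 18, 16, 9, 19, 6, 23, 8, 2, 7, 17, 3, 12, 21, 14, 13, 11, 4, 5, 15, 20, 10, 22], [0, 18, 4, 3, 1, 19, 6, 17, 13, 9, 22, 10, 8, 16, 7, 23, 12, 21, 2, 5, 11, 14, 20, 15]]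
def cands : List (List ℕ) := [[0, 1, 18, 16, 9, 19, 6, 23, 8, 2, 7, 17, 3, 12, 21, 14, 13, 11, 4, 5, 15, 20, 10, 22], [0, 2, 9, 13, 4, 19, 6, 20, 16, 18, 11, 14, 12, 8, 15, 10, 3, 22, 1, 5, 7, 17, 23, 21], [0, 3, 8, 2, 16, 10, 13, 15, 4, 12, 19, 22, 1, 6, 20, 23, 9, 11, 18, 21, 7, 5, 14, 17], [0, 4, 2, 8, 18, 19, 6, 10, 12, 1, 15, 20, 13, 3, 22, 17, 16, 7, 9, 5, 21, 23, 14, 11], [0, 8, 13, 9, 3, 20, 12, 11, 2, 16, 19, 15, 18, 6, 14, 17, 1, 21, 4, 7, 22, 5, 23, 10], [0, 9, 1, 12, 2, 19, 6, 14, 3, 4, 21, 23, 16, 13, 11, 20, 8, 15, 18, 5, 22, 10, 17, 7], [0, 12, 16, 18, 13, 23, 3, 7, 1, 8, 19, 21, 2, 6, 17, 20, 4, 22, 9, 15, 11, 5, 10, 14], [0, 13, 12, 1, 8, 14, 16, 21, 9, 3, 19, 11, 4, 6, 23, 10, 18, 7, 2, 22, 15, 5, 17, 20], [0, 16, 3, 4, 12, 17, 8, 22, 18, 13, 19, 7, 9, 6, 10, 14, 2, 15, 1, 11, 21, 5, 20, 23], [0, 18, 4, 3, 1, 19, 6, 17, 13, 9, 22, 10, 8, 16, 7, 23, 12, 21, 2, 5, 11, 14, 20, 15]]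
def lets : List (List ℕ) := [[0, 4, 2, 8, 18, 19, 6, 10, 12, 1, 15, 20, 13, 3, 22, 17, 16, 7, 9, 5, 21, 23, 14, 11], [0, 16, 3, 8, 13, 5, 1, 20, 12, 2, 7, 19, 4, 6, 11, 21, 18, 23, 9, 10, 17, 14, 15, 22], [0, 18, 8, 12, 6, 5, 16, 17, 4, 3, 20, 10, 13, 1, 19, 14, 9, 22, 2, 7, 23, 11, 21, 15], [0, 9, 12, 4, 1, 5, 18, 23, 13, 8, 17, 7, 6, 16, 10, 11, 2, 15, 3, 20, 22, 19, 14, 21], [0, 2, 4, 13, 16, 5, 9, 22, 6, 12, 23, 20, 1, 18, 7, 19, 3, 21, 8, 17, 15, 10, 11, 14], [0, 3, 13, 6, 18, 5, 2, 15, 1, 4, 22, 17, 16, 9, 20, 10, 8, 14, 12, 23, 21, 7, 19, 11], [0, 8, 6, 1, 9, 5, 3, 21, 16, 13, 15, 23, 18, 2, 17, 7, 12, 11, 4, 22, 14, 20, 10, 19], [0, 12, 1, 16, 2, 5, 8, 14, 18, 6, 21, 22, 9, 3, 23, 20, 4, 19, 13, 15, 11, 17, 7, 10], [0, 4, 16, 18, 3, 5, 12, 11, 9, 1, 14, 15, 2, 8, 22, 17, 13, 10, 6, 21, 19, 23, 20, 7], [0, 13, 18, 9, 8, 5, 4, 19, 2, 16, 11, 21, 3, 12, 15, 23, 6, 7, 1, 14, 10, 22, 17, 20], [0, 6, 9, 2, 12, 5, 13, 10,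 3, 18, 19, 14, 8, 4, 21, 22, 1, 20, 16, 11, 7, 15, 23, 17]]
def levels : List (ℕ × List (List ℕ)) := [(1, [[], [4], [5], [0], [10], [6], [3], [7], [9], [1], [2]]), (2, [[], [10, 0, 1], [1, 0, 2, 0], [0, 6, 0], [0, 1, 0, 0], [4, 0, 6], [3, 0], [0, 3], [1, 0, 10], [9, 0, 0]]), (3, [[], [0, 6, 0, 3, 0], [7, 0, 7, 0], [8, 0, 2], [6, 0, 9, 0, 3], [3, 0, 6, 0, 1, 0], [0, 9, 0, 1, 0], [0, 2, 0, 4, 0], [0, 4, 0, 10]]), (4, [[], [0, 0, 1, 0, 7, 0, 1, 0], [2, 0, 4, 0, 0, 0], [0, 0, 10, 0, 5, 0], [1, 0, 0, 10, 0, 0, 2], [7, 0, 6, 0, 5, 0, 0], [0, 10, 0, 3, 0, 1], [6, 0, 5, 0, 4]])]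
def relW : List Bool := [true, true, true, false, true, true, true, false, true, true, true, false]

theorem tx_mem : m11Tab tx = true := by decide +kernel
theorem tn_mem : m11Tab tn = true := by decide +kernel
theorem tv_mem : m11Tab tv = true := by decide +kernel

theorem valid_of_m11Tab {t : List ℕ} (h : m11Tab t = true) : tabValid t = true := by
  unfold m11Tab at h
  simp only [Bool.and_eq_true] at h
  exact valid_of_m12Tab h.1

/-- an element of order 11 -/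
noncomputable def X : ↥Spor.M11 := ⟨tabPermD tx, tabPermD_mem_M11 tx_mem⟩
/-- an element of order 5 normalising `⟨X⟩` -/
noncomputable def N : ↥Spor.M11 := ⟨tabPermD tn, tabPermD_mem_M11 tn_mem⟩
/-- an element of order 4 normalising `⟨N⟩` -/
noncomputable def V : ↥Spor.M11 := ⟨tabPermD tv, tabPermD_mem_M11 tv_mem⟩

instance : Fact (Nat.Prime 11) := ⟨by norm_num⟩
instance : Fact (Nat.Prime 5) := ⟨by norm_num⟩

theorem hX : orderOf X = 11 :=
  orderOf_tab X tx rfl 11 (by decide +kernel) (by decide +kernel) (valid_of_m11Tab tx_mem) 1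
    (by norm_num) (by decide)

theorem hN : orderOf N = 5 :=
  orderOf_tab N tn rfl 5 (by decide +kernel) (by decide +kernel) (valid_of_m11Tab tn_mem) 1
    (by norm_num) (by decide)

theorem hp11 : ¬ 11 ^ 2 ∣ Nat.card ↥Spor.M11 := by rw [card_M11]; decide
theorem hp5 : ¬ 5 ^ 2 ∣ Nat.card ↥Spor.M11 := by rw [card_M11]; decide

theorem hNX : N * X * N⁻¹ = X ^ 4 := by
  have h := word_eq (L := [tn, tx]) (L' := [tx, tx, tx, tx, tn]) (by decide +kernel)
    (by decide +kernel) (by decide +kernel)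
  apply Subtype.ext
  show tabPermD tn * tabPermD tx * (tabPermD tn)⁻¹ = tabPermD tx ^ 4
  rw [mul_inv_eq_iff_eq_mul]
  simpa [pow_succ, mul_assoc] using h

theorem hVN : V * N * V⁻¹ = N ^ 2 := by
  have h := word_eq (L := [tv, tn]) (L' := [tn, tn, tv]) (by decide +kernel)
    (by decide +kernel) (by decide +kernel)
  apply Subtype.ext
  show tabPermD tv * tabPermD tn * (tabPermD tv)⁻¹ = tabPermD tn ^ 2
  rw [mul_inv_eq_iff_eq_mul]
  simpa [pow_succ, mul_assoc] using h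

theorem tn2_eq : tabPermD tn ^ 2 = tabPermD tn2 := by
  rw [pow_tab tn 2 (by decide +kernel)]
  congr 1

theorem M11_le : Spor.M11 ≤ Spor.M12 := fun _ hg =>
  mem_M12_iff.2 ⟨(mem_M11_iff.1 hg).1, (mem_M11_iff.1 hg).2.1⟩

theorem pt_zero : pt 0 = (some 0 : GolayPt) := by
  unfold pt
  simp

theorem cands_enum : enumOK tn tn2 [0] 1 4 cands = true := by decide +kernel

theorem cands_chk : cands.all (fun t => tabValid t && tabValid (tabMul t tn) &&
    tabValid (tabMul tn2 t) && (!(tabMul t tn == tabMul tn2 t) || Rl.contains t)) = true := by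
  decide +kernel

theorem Rl_chk : (List.range 5).all (fun i => prodValid (Rl.getD i [] :: List.replicate i tn) &&
    prodValid (List.replicate i tn ++ [tv]) &&
    (tabProd (Rl.getD i [] :: List.replicate i tn) == tabProd (List.replicate i tn ++ [tv]))) = true := by
  decide +kernel

theorem hinv (g : ↥Spor.M11) (hgn : g * N * g⁻¹ = N ^ 2) :
    ∃ i : ℕ, g = N ^ i * V * (N ^ i)⁻¹ := by
  have h1 : (g : Equiv.Perm GolayPt) * tabPermD tn = tabPermD tn2 * (g : Equiv.Perm GolayPt) := by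
    rw [← tn2_eq]
    have := congrArg Subtype.val (mul_inv_eq_iff_eq_mul.1 hgn)
    exact this
  have hF : ∀ p ∈ [0], (g : Equiv.Perm GolayPt) (pt p) = pt p := by
    intro p hp
    rw [List.mem_singleton] at hp
    rw [hp, pt_zero]
    exact (mem_M11_iff.1 g.2).2.2
  obtain ⟨t, ht, e⟩ := enum_intertwine (M11_le g.2) cands_enum h1 hF
  have hc := List.all_eq_true.1 cands_chk t ht
  simp only [Bool.and_eq_true, Bool.or_eq_true, Bool.not_eq_true',
    beq_eq_false_iff_ne, List.contains_eq_mem, decide_eq_true_eq] at hc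
  obtain ⟨⟨⟨hv, hv1⟩, hv2⟩, hc⟩ := hc
  have hvn : tabValid tn = true := valid_of_m11Tab tn_mem
  have hvn2 : tabValid tn2 = true := by decide +kernel
  rw [e, tabPermD_mul hv hvn hv1, tabPermD_mul hvn2 hv hv2] at h1
  have h3 := tabPermD_inj hv1 hv2 h1
  rcases hc with hc | hc
  · exact absurd h3 hc
  · obtain ⟨i, hi, rfl⟩ := List.mem_iff_getElem.1 hc
    have hi5 : i < 5 := by
      have : Rl.length = 5 := by decide
      omega
    refine ⟨i, ?_⟩
    have hR := List.all_eq_true.1 Rl_chk i (List.mem_range.2 hi5)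
    simp only [Bool.and_eq_true, beq_iff_eq] at hR
    obtain ⟨⟨hp1, hp2⟩, heq⟩ := hR
    have hw := word_eq hp1 hp2 heq
    rw [List.getD_eq_getElem _ _ hi] at hw
    simp only [List.map_cons, List.prod_cons, List.map_append, List.prod_append, List.map_replicate,
      List.prod_replicate, List.map_nil, List.prod_nil, mul_one] at hw
    apply Subtype.ext
    show (g : Equiv.Perm GolayPt) = tabPermD tn ^ i * tabPermD tv * (tabPermD tn ^ i)⁻¹
    rw [e, eq_mul_inv_iff_mul_eq]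
    exact hw

/-! ### generation -/

theorem lets_eq : lets = tv :: (List.range 10).map (fun k => tabProd (List.replicate (k + 1) tx)) := by
  decide +kernel

theorem lets_valid : (List.range 10).all (fun k => prodValid (List.replicate (k + 1) tx)) = true := by
  decide +kernel

theorem chain_ok : chainOK lets [0] levels = true := by decide +kernel

theorem tup_ok : tupOK ((levels.map Prod.fst).reverse ++ [0]) = true := by decide +kernel

theorem hgen : Subgroup.closure {X, V} = ⊤ := by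
  apply closure_eq_top_of
  intro g hg
  have hK : Subgroup.closure {(X : Equiv.Perm GolayPt), (V : Equiv.Perm GolayPt)} ≤ Spor.M12 := by
    rw [Subgroup.closure_le]
    intro y hy
    rcases hy with rfl | rfl
    · exact M11_le X.2
    · exact M11_le V.2
  have hF : ∀ p ∈ [0], g (pt p) = pt p := by
    intro p hp
    rw [List.mem_singleton] at hp
    rw [hp, pt_zero]
    exact (mem_M11_iff.1 hg).2.2
  refine mem_of_chain _ hK lets ?_ levels [0] chain_ok tup_ok (M11_le hg) hF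
  intro t ht
  rw [lets_eq] at ht
  rcases List.mem_cons.1 ht with rfl | ht
  · exact Subgroup.subset_closure (Set.mem_insert_of_mem _ rfl)
  · obtain ⟨k, hk, rfl⟩ := List.mem_map.1 ht
    rw [← pow_tab tx (k + 1) (List.all_eq_true.1 lets_valid k hk)]
    have hx : tabPermD tx ∈ Subgroup.closure {(X : Equiv.Perm GolayPt), (V : Equiv.Perm GolayPt)} :=
      Subgroup.subset_closure (Set.mem_insert _ _)
    exact Subgroup.pow_mem _ hx _

/-! ### a relation distinguishing `X` from its other powers -/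

theorem rel_one : prodValid (relW.map fun b => if b then tx else tv) = true ∧
    tabProd (relW.map fun b => if b then tx else tv) = List.range 24 := by decide +kernel

theorem rel_ne : (List.range 9).all (fun i =>
    prodValid (List.replicate (i + 2) tx) &&
    prodValid (relW.map fun b => if b then tabProd (List.replicate (i + 2) tx) else tv) &&
    tabValid (tabProd (relW.map fun b => if b then tabProd (List.replicate (i + 2) tx) else tv)) &&
    !(tabProd (relW.map fun b => if b then tabProd (List.replicate (i + 2) tx) else tv) ==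
      List.range 24)) = true := by
  decide +kernel

theorem hrel1 : AutTower.wd X V relW = 1 := by
  apply Subtype.ext
  rw [coe_wd X V tx tv rfl rfl, prod_tabPermD rel_one.1, rel_one.2, tabPermD_one]
  rfl

theorem hrelk (r : ℕ) (h2 : 2 ≤ r) (h10 : r ≤ 10) : AutTower.wd (X ^ r) V relW ≠ 1 := by
  obtain ⟨i, rfl⟩ : ∃ i, r = i + 2 := ⟨r - 2, by omega⟩
  have hR := List.all_eq_true.1 rel_ne i (List.mem_range.2 (by omega))
  simp only [Bool.and_eq_true, Bool.not_eq_true', beq_eq_false_iff_ne] at hR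
  obtain ⟨⟨⟨hp1, hp2⟩, hv⟩, hne⟩ := hR
  intro e
  have h3 := congrArg Subtype.val e
  rw [coe_wd (X ^ (i + 2)) V (tabProd (List.replicate (i + 2) tx)) tv
    (by rw [Subgroup.coe_pow]; exact pow_tab tx (i + 2) hp1) rfl, prod_tabPermD hp2] at h3
  have h4 : tabPermD (tabProd (relW.map fun b => if b then tabProd (List.replicate (i + 2) tx) else tv))
      = tabPermD (List.range 24) := by
    rw [h3, tabPermD_one]; rfl
  exact hne (tabPermD_inj hv (by decide +kernel) h4)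

/-! ### every automorphism is inner -/

theorem aut_inner (α : MulAut ↥Spor.M11) : α ∈ Cfsg.Inn ↥Spor.M11 := by
  obtain ⟨g, k, h1, h2⟩ := AutTower.normal_form_conj hX hN hp11 hp5 hNX hVN hinv α
  have hX1 : X ≠ 1 := by
    intro h
    have := hX
    rw [h, orderOf_one] at this
    norm_num at this
  have hγX : (MulAut.conj g * α) X = X ^ k := h1
  have hγV : (MulAut.conj g * α) V = V := h2
  have hk : X ^ k ≠ 1 := by
    intro h
    rw [h] at hγX
    exact hX1 ((MulAut.conj g * α).injective (by rw [hγX, map_one]))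
  have hrel : AutTower.wd (X ^ k) V relW = 1 := by
    have := AutTower.map_wd (MulAut.conj g * α) X V relW
    rw [hrel1, map_one, hγX, hγV] at this
    exact this.symm
  have hkm : X ^ k = X ^ (k % 11) := by rw [← hX, pow_mod_orderOf]
  have hk1 : k % 11 = 1 := by
    by_contra hne
    have hlt : k % 11 < 11 := Nat.mod_lt _ (by norm_num)
    have h0 : k % 11 ≠ 0 := by
      intro h
      apply hk
      rw [hkm, h, pow_zero]
    rw [hkm] at hrel
    exact hrelk (k % 11) (by omega) (by omega) hrel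
  have hone : MulAut.conj g * α = 1 := by
    apply AutTower.eq_of_gen hgen
    · rw [hγX, hkm, hk1, pow_one]; rfl
    · rw [hγV]; rfl
  have : α = (MulAut.conj g)⁻¹ := by
    rw [← mul_one (MulAut.conj g)⁻¹, ← hone, inv_mul_cancel_left]
  rw [this]
  exact Subgroup.inv_mem _ ⟨g, rfl⟩

/-- the outer automorphism group of `M11` is trivial -/
theorem card_out : Nat.card (Cfsg.Out ↥Spor.M11) = 1 := by
  show (Cfsg.Inn ↥Spor.M11).index = 1
  rw [Subgroup.index_eq_one, eq_top_iff]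
  intro α _
  exact aut_inner α

end Cfsg.Agent.Lib.Helper27.OutM11
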