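import Mathlib
import Cfsg.Prelude.Def_KGroupFacts
import Cfsg.Agent.Lib.Helper27.M12Tab

set_option autoImplicit false

/-! # The outer automorphism group of `M12` has order 2 -/

namespace Cfsg.Agent.Lib.Helper27.OutM12

open Cfsg Cfsg.Agent.Lib.Helper6.Golay Cfsg.Agent.Lib.Helper6.M24 Cfsg.Agent.Lib.Helper6.M12
  Cfsg.Agent.Lib.Helper86 Cfsg.Agent.Lib.Helper27.MT Cfsg.Agent.Lib.Helper27

def tx : List ℕ := [0, 16, 3, 8, 13, 5, 1, 20, 12, 2, 7, 19, 4, 6, 11, 21, 18, 23, 9, 10, 17, 14, 15, 22]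
def tw : List ℕ := [5, 7, 11, 10, 15, 0, 19, 9, 20, 21, 16, 4, 23, 14, 8, 18, 17, 12, 22, 6, 3, 2, 1, 13]
def tn : List ℕ := [0, 9, 4, 16, 18, 5, 6, 21, 3, 2, 17, 15, 13, 8, 20, 22, 12, 23, 1, 19, 10, 11, 7, 14]
def tz : List ℕ := [6, 8, 16, 9, 12, 19, 0, 20, 1, 3, 21, 17, 4, 18, 22, 23, 2, 11, 13, 5, 7, 10, 14, 15]
def tu : List ℕ := [0, 2, 13, 9, 8, 21, 3, 7, 12, 16, 17, 5, 1, 18, 22, 20, 4, 19, 6, 11, 14, 23, 10, 15]
def cen : List (List ℕ) := [[0, 1, 2, 3, 4, 5, 6, 7, 8, 9, 10, 11, 12, 13, 14, 15, 16, 17, 18, 19, 20, 21, 22, 23], [6, 8, 16, 9, 12, 19, 0, 20, 1, 3, 21, 17, 4, 18, 22, 23, 2, 11, 13, 5, 7, 10, 14, 15], [0, 9, 4, 16, 18, 5, 6, 21, 3, 2, 17, 15, 13, 8, 20, 22, 12, 23, 1, 19, 10, 11, 7, 14], [6, 3, 12, 2, 13, 19, 0, 10, 9, 16, 11, 23, 18, 1, 7, 14, 4, 15, 8, 5, 21, 17, 20, 22], [0, 2, 18, 12, 1, 5, 6, 11, 16, 4, 23, 22, 8, 3, 10, 7, 13, 14, 9, 19, 17, 15, 21, 20], [6, 16, 13, 4, 8, 19,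 0, 17, 2, 12, 15, 14, 1, 9, 21, 20, 18, 22, 3, 5, 11, 23, 10, 7], [0, 4, 1, 13, 9, 5, 6, 15, 12, 18, 14, 7, 3, 16, 17, 21, 8, 20, 2, 19, 23, 22, 11, 10], [6, 12, 8, 18, 3, 19, 0, 23, 4, 13, 22, 20, 9, 2, 11, 10, 1, 7, 16, 5, 15, 14, 17, 21], [0, 18, 9, 8, 2, 5, 6, 22, 13, 1, 20, 21, 16, 12, 23, 11, 3, 10, 4, 19, 14, 7, 15, 17], [6, 13, 3, 1, 16, 19, 0, 14, 18, 8, 7, 10, 2, 4, 15, 17, 9, 21, 12, 5, 22, 20, 23, 11]]
def lets : List (List ℕ) := [[6, 8, 16, 9, 12, 19, 0, 20, 1, 3, 21, 17, 4, 18, 22, 23, 2, 11, 13, 5, 7, 10, 14, 15], [0, 16, 3, 8, 13, 5, 1, 20, 12, 2, 7, 19, 4, 6, 11, 21, 18, 23, 9, 10, 17, 14, 15, 22], [0, 18, 8, 12, 6, 5, 16, 17, 4, 3, 20, 10, 13, 1, 19, 14, 9, 22, 2, 7, 23, 11, 21, 15], [0, 9, 12, 4, 1, 5, 18, 23, 13, 8, 17, 7, 6, 16, 10, 11, 2, 15, 3, 20, 22, 19, 14, 21], [0, 2, 4, 13, 16, 5, 9, 22, 6, 12, 23, 20, 1, 18, 7, 19, 3, 21, 8, 17, 15, 10, 11, 14], [0, 3, 13, 6, 18, 5, 2,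 15, 1, 4, 22, 17, 16, 9, 20, 10, 8, 14, 12, 23, 21, 7, 19, 11], [0, 8, 6, 1, 9, 5, 3, 21, 16, 13, 15, 23, 18, 2, 17, 7, 12, 11, 4, 22, 14, 20, 10, 19], [0, 12, 1, 16, 2, 5, 8, 14, 18, 6, 21, 22, 9, 3, 23, 20, 4, 19, 13, 15, 11, 17, 7, 10], [0, 4, 16, 18, 3, 5, 12, 11, 9, 1, 14, 15, 2, 8, 22, 17, 13, 10, 6, 21, 19, 23, 20, 7], [0, 13, 18, 9, 8, 5, 4, 19, 2, 16, 11, 21, 3, 12, 15, 23, 6, 7, 1, 14, 10, 22, 17, 20], [0, 6, 9, 2, 12, 5, 13, 10, 3, 18, 19, 14, 8, 4, 21, 22, 1, 20, 16, 11, 7, 15, 23, 17]]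
def levels : List (ℕ × List (List ℕ)) := [(0, [[], [1, 0], [5, 0], [6, 0], [9, 0], [0], [7, 0], [4, 0], [8, 0], [10, 0], [2, 0], [3, 0]]), (1, [[], [4], [5], [8], [10], [6], [3], [7], [9], [1], [2]]), (2, [[], [7, 0, 4, 0, 1, 0], [2, 0, 6, 0, 2, 0], [5, 0, 8, 0, 10, 0], [5, 0, 7, 0, 6, 0], [0, 6, 0, 5, 0, 9, 0], [0, 2, 0, 8, 0, 1], [10, 0, 3, 0, 9, 0], [10, 0, 9, 0, 5, 0], [0, 6, 0, 2, 0, 1]]), (3, [[], [0, 8, 0, 10, 0, 5], [6, 0, 1, 0, 3, 0], [0, 3, 0, 9, 0, 8], [4, 0, 10, 0, 7, 0], [3, 0, 6, 0, 8, 0, 2, 0], [10, 0, 2, 0, 8, 0, 4], [10, 0, 6, 0, 5, 0, 9, 0, 2], [9, 0, 10, 0, 1, 0, 4, 0]]), (4, [[], [0, 4, 0, 7, 0, 4, 0, 8, 0], [2, 0, 2, 0, 8, 0, 2], [0, 3, 0, 7, 0, 4, 0, 7, 0], [4, 0, 10, 0, 4, 0, 10, 0, 5], [0, 9, 0, 9, 0, 1, 0, 4], [9, 0, 3, 0, 9, 0, 9], [7, 0, 10, 0, 2, 0, 2, 0]])]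

theorem tx_mem : m12Tab tx = true := by decide +kernel
theorem tn_mem : m12Tab tn = true := by decide +kernel
theorem tz_mem : m12Tab tz = true := by decide +kernel
theorem tu_mem : m12Tab tu = true := by decide +kernel
theorem tw_valid : tabValid tw = true := by decide +kernel

/-- an element of order 11 -/
noncomputable def X : ↥Spor.M12 := ⟨tabPermD tx, tabPermD_mem_M12 tx_mem⟩
/-- an element of order 5 normalising `⟨X⟩` -/
noncomputable def N : ↥Spor.M12 := ⟨tabPermD tn, tabPermD_mem_M12 tn_mem⟩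
/-- the involution centralising `N` -/
noncomputable def Z : ↥Spor.M12 := ⟨tabPermD tz, tabPermD_mem_M12 tz_mem⟩
/-- an element fixing the point 0 but not the point 5 -/
noncomputable def U : ↥Spor.M12 := ⟨tabPermD tu, tabPermD_mem_M12 tu_mem⟩
/-- an element of order 10 of `M24` interchanging the dodecad and its complement -/
noncomputable def Wp : Equiv.Perm GolayPt := tabPermD tw

instance : Fact (Nat.Prime 11) := ⟨by norm_num⟩
instance : Fact (Nat.Prime 5) := ⟨by norm_num⟩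

theorem hX : orderOf X = 11 :=
  orderOf_tab X tx rfl 11 (by decide +kernel) (by decide +kernel) (valid_of_m12Tab tx_mem) 1
    (by norm_num) (by decide)

theorem hN : orderOf N = 5 :=
  orderOf_tab N tn rfl 5 (by decide +kernel) (by decide +kernel) (valid_of_m12Tab tn_mem) 1
    (by norm_num) (by decide)

theorem hp11 : ¬ 11 ^ 2 ∣ Nat.card ↥Spor.M12 := by rw [card_M12]; decide
theorem hp5 : ¬ 5 ^ 2 ∣ Nat.card ↥Spor.M12 := by rw [card_M12]; decide

theorem hNX : N * X * N⁻¹ = X ^ 4 := by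
  have h := word_eq (L := [tn, tx]) (L' := [tx, tx, tx, tx, tn]) (by decide +kernel)
    (by decide +kernel) (by decide +kernel)
  apply Subtype.ext
  show tabPermD tn * tabPermD tx * (tabPermD tn)⁻¹ = tabPermD tx ^ 4
  rw [mul_inv_eq_iff_eq_mul]
  simpa [pow_succ, mul_assoc] using h

theorem hZ2 : Z * Z = 1 := by
  have h := word_eq (L := [tz, tz]) (L' := []) (by decide +kernel) (by decide +kernel)
    (by decide +kernel)
  apply Subtype.ext
  show tabPermD tz * tabPermD tz = 1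
  simpa using h

theorem hZ1 : Z ≠ 1 := by
  intro e
  have h3 := congrArg Subtype.val e
  exact tabPermD_ne_one (valid_of_m12Tab tz_mem) 0 (by norm_num) (by decide) h3

theorem hZN : Z * N = N * Z := by
  have h := word_eq (L := [tz, tn]) (L' := [tn, tz]) (by decide +kernel) (by decide +kernel)
    (by decide +kernel)
  apply Subtype.ext
  show tabPermD tz * tabPermD tn = tabPermD tn * tabPermD tz
  simpa using h

theorem cen_enum : enumOK tn tn [] 1 5 cen = true := by decide +kernel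

theorem cen_sq : cen.all (fun t => tabValid t && tabValid (tabMul t t) &&
    (!(tabMul t t == List.range 24) || t == List.range 24 || t == tz)) = true := by
  decide +kernel

theorem huniq (g : ↥Spor.M12) (hgn : g * N = N * g) (hg2 : g * g = 1) : g = 1 ∨ g = Z := by
  have h1 : (g : Equiv.Perm GolayPt) * tabPermD tn = tabPermD tn * (g : Equiv.Perm GolayPt) :=
    congrArg Subtype.val hgn
  obtain ⟨t, ht, e⟩ := enum_intertwine g.2 cen_enum h1 (by simp)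
  have hc := List.all_eq_true.1 cen_sq t ht
  simp only [Bool.and_eq_true, Bool.or_eq_true, Bool.not_eq_true', beq_iff_eq,
    beq_eq_false_iff_ne] at hc
  obtain ⟨⟨hv, hv2⟩, hc⟩ := hc
  have h2 : tabPermD t * tabPermD t = 1 := by
    rw [← e]; exact congrArg Subtype.val hg2
  rw [tabPermD_mul hv hv hv2, ← tabPermD_one] at h2
  have h3 := tabPermD_inj hv2 (by decide +kernel) h2
  rcases hc with (hc | hc) | hc
  · exact absurd h3 hc
  · left
    apply Subtype.ext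
    rw [e, hc, tabPermD_one]; rfl
  · right
    apply Subtype.ext
    rw [e, hc]; rfl

/-! ### generation -/

theorem lets_eq : lets = tz :: (List.range 10).map (fun k => tabProd (List.replicate (k + 1) tx)) := by
  decide +kernel

theorem lets_valid : (List.range 10).all (fun k => prodValid (List.replicate (k + 1) tx)) = true := by
  decide +kernel

theorem chain_ok : chainOK lets [] levels = true := by decide +kernel

theorem tup_ok : tupOK ((levels.map Prod.fst).reverse ++ []) = true := by decide +kernel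

theorem hgen : Subgroup.closure {X, Z} = ⊤ := by
  apply closure_eq_top_of
  intro g hg
  have hK : Subgroup.closure {(X : Equiv.Perm GolayPt), (Z : Equiv.Perm GolayPt)} ≤ Spor.M12 := by
    rw [Subgroup.closure_le]
    intro y hy
    rcases hy with rfl | rfl
    · exact X.2
    · exact Z.2
  refine mem_of_chain _ hK lets ?_ levels [] chain_ok tup_ok hg (by simp)
  intro t ht
  rw [lets_eq] at ht
  rcases List.mem_cons.1 ht with rfl | ht
  · exact Subgroup.subset_closure (Or.inr rfl)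
  · obtain ⟨k, hk, rfl⟩ := List.mem_map.1 ht
    rw [← pow_tab tx (k + 1) (List.all_eq_true.1 lets_valid k hk)]
    have hx : tabPermD tx ∈ Subgroup.closure {(X : Equiv.Perm GolayPt), (Z : Equiv.Perm GolayPt)} :=
      Subgroup.subset_closure (Set.mem_insert _ _)
    exact Subgroup.pow_mem _ hx _

/-! ### the outer automorphism -/

theorem hW24 : Wp ∈ M24 := by
  unfold Wp
  rw [tabPermD_eq tw_valid]
  exact tabPerm_mem tw tw_valid (by decide +kernel)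

theorem hWd (p : GolayPt) : Wp p ∈ Spor.squareDodecad ↔ p ∉ Spor.squareDodecad := by
  have h := maps_tabPerm tw tw_valid 340831
  have e : pm tw 0 340831 = 16436384 := by decide +kernel
  rw [e] at h
  have h1 := h p
  have h2 : ∀ j < 24, (16436384 : ℕ).testBit j = !(340831 : ℕ).testBit j := by decide
  rw [mem_sqD, mem_sqD]
  unfold Wp
  rw [tabPermD_eq tw_valid]
  have h3 := h2 _ (idx_lt (tabPerm tw tw_valid p))
  rw [h3] at h1
  unfold dM
  rw [h1]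
  cases (340831 : ℕ).testBit (idx (tabPerm tw tw_valid p)) <;> simp

/-- conjugation by `Wp` -/
noncomputable def cw : MulAut ↥Spor.M12 :=
  conjAut Spor.M12 Wp (conj_mem_M12 hW24 hWd).1 (conj_mem_M12 hW24 hWd).2

theorem cw_X : cw X = X ^ 2 := by
  have h := word_eq (L := [tw, tx]) (L' := [tx, tx, tw]) (by decide +kernel) (by decide +kernel)
    (by decide +kernel)
  apply Subtype.ext
  show Wp * tabPermD tx * Wp⁻¹ = tabPermD tx ^ 2
  rw [mul_inv_eq_iff_eq_mul]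
  unfold Wp
  simpa [pow_succ, mul_assoc] using h

theorem cw_Z : cw Z = Z := by
  have h := word_eq (L := [tw, tz]) (L' := [tz, tw]) (by decide +kernel) (by decide +kernel)
    (by decide +kernel)
  apply Subtype.ext
  show Wp * tabPermD tz * Wp⁻¹ = tabPermD tz
  rw [mul_inv_eq_iff_eq_mul]
  unfold Wp
  simpa using h

theorem hWW : Wp * Wp = tabPermD tn := by
  have h := word_eq (L := [tw, tw]) (L' := [tn]) (by decide +kernel) (by decide +kernel)
    (by decide +kernel)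
  unfold Wp
  simpa using h

theorem cw_sq : cw * cw = MulAut.conj N := by
  apply MulEquiv.ext
  intro y
  apply Subtype.ext
  show Wp * (Wp * (y : Equiv.Perm GolayPt) * Wp⁻¹) * Wp⁻¹ =
    tabPermD tn * (y : Equiv.Perm GolayPt) * (tabPermD tn)⁻¹
  rw [← hWW]
  simp only [mul_inv_rev, mul_assoc]

theorem cw_pow_X : ∀ i : ℕ, (cw ^ i) X = X ^ (2 ^ i)
  | 0 => by simp
  | i + 1 => by
    rw [pow_succ', MulAut.mul_apply, cw_pow_X i, map_pow, cw_X, ← pow_mul, pow_succ, mul_comm]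

theorem cw_pow_Z : ∀ i : ℕ, (cw ^ i) Z = Z
  | 0 => by simp
  | i + 1 => by rw [pow_succ', MulAut.mul_apply, cw_pow_Z i, cw_Z]

theorem fix_X : ∀ e < 24, tx.getD e 0 = e → (340831 : ℕ).testBit e = false → e = 5 := by decide

theorem cw_not_inn : cw ∉ Cfsg.Inn ↥Spor.M12 := by
  rintro ⟨m, hm⟩
  have hc : ∀ y : ↥Spor.M12, (m : Equiv.Perm GolayPt)⁻¹ * Wp * (y : Equiv.Perm GolayPt) =
      (y : Equiv.Perm GolayPt) * ((m : Equiv.Perm GolayPt)⁻¹ * Wp) := by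
    intro y
    have h1 : (m : Equiv.Perm GolayPt) * y * (m : Equiv.Perm GolayPt)⁻¹ = Wp * y * Wp⁻¹ :=
      congrArg (fun f : MulAut ↥Spor.M12 => ((f y : ↥Spor.M12) : Equiv.Perm GolayPt)) hm
    have h2 : (m : Equiv.Perm GolayPt) * y = Wp * y * Wp⁻¹ * m := by
      rw [← h1]; simp only [mul_assoc, inv_mul_cancel, mul_one]
    calc (m : Equiv.Perm GolayPt)⁻¹ * Wp * (y : Equiv.Perm GolayPt)
        = (m : Equiv.Perm GolayPt)⁻¹ * (Wp * y * Wp⁻¹ * m) * ((m : Equiv.Perm GolayPt)⁻¹ * Wp) := by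
          group
      _ = (y : Equiv.Perm GolayPt) * ((m : Equiv.Perm GolayPt)⁻¹ * Wp) := by
          rw [← h2]; group
  -- the point `c (pt 0)`
  have hv := valid_of_m12Tab tx_mem
  have hvu := valid_of_m12Tab tu_mem
  have h0d : pt 0 ∈ Spor.squareDodecad := mem_sqD.2 (by rw [idx_pt (by norm_num)]; decide)
  have hq : ((m : Equiv.Perm GolayPt)⁻¹ * Wp) (pt 0) ∉ Spor.squareDodecad := by
    show (m : Equiv.Perm GolayPt)⁻¹ (Wp (pt 0)) ∉ Spor.squareDodecad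
    have hm' := (mem_M12_iff'.1 (Subgroup.inv_mem _ m.2)).2 (Wp (pt 0))
    rw [hm', hWd]
    exact fun h => h h0d
  have hfix : ∀ t : List ℕ, tabValid t = true → t.getD 0 0 = 0 →
      (∀ y : Equiv.Perm GolayPt, y = tabPermD t →
        (m : Equiv.Perm GolayPt)⁻¹ * Wp * y = y * ((m : Equiv.Perm GolayPt)⁻¹ * Wp)) →
      t.getD (idx (((m : Equiv.Perm GolayPt)⁻¹ * Wp) (pt 0))) 0 =
        idx (((m : Equiv.Perm GolayPt)⁻¹ * Wp) (pt 0)) := by
    intro t hvt h0 hcomm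
    have h1 := congrArg (fun σ : Equiv.Perm GolayPt => σ (pt 0)) (hcomm _ rfl)
    simp only [Equiv.Perm.mul_apply] at h1
    rw [tabPermD_pt hvt (by norm_num), h0] at h1
    have h2 := congrArg idx h1
    rw [← pt_idx ((m : Equiv.Perm GolayPt)⁻¹ (Wp (pt 0))), tabPermD_pt hvt (idx_lt _),
      idx_pt (getD_lt hvt (idx_lt _)), pt_idx] at h2
    exact h2.symm
  have e5 : idx (((m : Equiv.Perm GolayPt)⁻¹ * Wp) (pt 0)) = 5 := by
    apply fix_X _ (idx_lt _)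
    · exact hfix tx hv (by decide) (fun y hy => by rw [hy]; exact hc X)
    · have := mem_sqD.not.1 hq
      simpa [dM] using this
  have hu := hfix tu hvu (by decide) (fun y hy => by rw [hy]; exact hc U)
  rw [e5] at hu
  revert hu
  decide

/-! ### every automorphism is inner times a power of `cw` -/

theorem two_pow_mod : ∀ r : Fin 11, r.val ≠ 0 → ∃ i : Fin 10, 2 ^ i.val % 11 = r.val := by decide

theorem aut_form (α : MulAut ↥Spor.M12) :
    ∃ g : ↥Spor.M12, ∃ i : ℕ, MulAut.conj g * α = cw ^ i := by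
  obtain ⟨g, k, h1, h2⟩ := AutTower.normal_form_central hX hN hp11 hp5 hNX hZ2 hZ1 hZN huniq α
  have hX1 : X ≠ 1 := by
    intro h
    have := hX
    rw [h, orderOf_one] at this
    norm_num at this
  have hk : X ^ k ≠ 1 := by
    intro h
    rw [h] at h1
    have h3 : α X = 1 := by
      have : α X = g⁻¹ * (g * α X * g⁻¹) * g := by simp only [mul_assoc, inv_mul_cancel_left, inv_mul_cancel, mul_one]
      rw [this, h1]; simp
    exact hX1 (α.injective (by rw [h3, map_one]))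
  have hk0 : k % 11 ≠ 0 := by
    intro h
    apply hk
    rw [← pow_mod_orderOf, hX, h, pow_zero]
  obtain ⟨i, hi⟩ := two_pow_mod ⟨k % 11, Nat.mod_lt _ (by norm_num)⟩ hk0
  have hk2 : X ^ k = X ^ (2 ^ i.val) := by
    rw [← pow_mod_orderOf X k, ← pow_mod_orderOf X (2 ^ i.val), hX, hi]
  refine ⟨g, i.val, AutTower.eq_of_gen hgen _ _ ?_ ?_⟩
  · rw [cw_pow_X, ← hk2]; exact h1
  · rw [cw_pow_Z]; exact h2

theorem cw_pow_mem_iff (i : ℕ) : cw ^ i ∈ Cfsg.Inn ↥Spor.M12 ↔ Even i := by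
  have h2 : cw ^ 2 ∈ Cfsg.Inn ↥Spor.M12 := by
    rw [pow_two, cw_sq]; exact ⟨N, rfl⟩
  constructor
  · intro h
    by_contra hodd
    rw [Nat.not_even_iff_odd] at hodd
    obtain ⟨j, rfl⟩ := hodd
    apply cw_not_inn
    have h3 : (cw ^ 2) ^ j ∈ Cfsg.Inn ↥Spor.M12 := Subgroup.pow_mem _ h2 j
    have h4 : cw = ((cw ^ 2) ^ j)⁻¹ * cw ^ (2 * j + 1) := by
      rw [← pow_mul, pow_succ, inv_mul_cancel_left]
    rw [h4]
    exact Subgroup.mul_mem _ (Subgroup.inv_mem _ h3) h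
  · rintro ⟨j, rfl⟩
    rw [← two_mul, pow_mul]
    exact Subgroup.pow_mem _ h2 j

/-- the outer automorphism group of `M12` has order 2 -/
theorem card_out : Nat.card (Cfsg.Out ↥Spor.M12) = 2 := by
  show (Cfsg.Inn ↥Spor.M12).index = 2
  rw [Subgroup.index_eq_two_iff]
  refine ⟨cw, fun b => ?_⟩
  obtain ⟨g, i, hgi⟩ := aut_form b
  have hc : MulAut.conj g ∈ Cfsg.Inn ↥Spor.M12 := ⟨g, rfl⟩
  have hb : b = (MulAut.conj g)⁻¹ * cw ^ i := by rw [← hgi, inv_mul_cancel_left]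
  have e1 : b ∈ Cfsg.Inn ↥Spor.M12 ↔ Even i := by
    rw [hb, Subgroup.mul_mem_cancel_left _ (Subgroup.inv_mem _ hc), cw_pow_mem_iff]
  have e2 : b * cw ∈ Cfsg.Inn ↥Spor.M12 ↔ Even (i + 1) := by
    rw [hb, mul_assoc, ← pow_succ, Subgroup.mul_mem_cancel_left _ (Subgroup.inv_mem _ hc),
      cw_pow_mem_iff]
  rw [e1, e2, Nat.even_add_one]
  by_cases h : Even i
  · exact Or.inr ⟨h, fun h' => h' h⟩
  · exact Or.inl ⟨h, h⟩

end Cfsg.Agent.Lib.Helper27.OutM12
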