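import Cfsg.Agent.Lib.Helper26.Triad

set_option autoImplicit false

open scoped Pointwise

namespace Cfsg.Agent.Lib.Helper27.SixPt

open Cfsg.Agent.Lib.Helper7 Cfsg.Agent.Lib.Helper93 Cfsg.Agent.Lib.Helper26

/-- The pointwise stabiliser of five points is transitive on the remaining three points of their
octad and on the sixteen points outside it. -/
theorem five_fix_trans {W o : Finset Cfsg.GolayPt} (hW : W.card = 5) (ho : o ∈ Cfsg.octads)
    (hWo : W ⊆ o) {x y : Cfsg.GolayPt} (hx : x ∉ W) (hy : y ∉ W) (hxy : x ∈ o ↔ y ∈ o) :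
    ∃ h ∈ Cfsg.M24, (∀ w ∈ W, h w = w) ∧ h x = y := by
  classical
  by_cases hxo : x ∈ o
  · have hyo := hxy.mp hxo
    by_cases hxy' : x = y
    · exact ⟨1, Cfsg.M24.one_mem, fun _ _ => rfl, by rw [hxy']; rfl⟩
    · have hsub : insert x (insert y W) ⊆ o := by
        intro w hw
        rw [Finset.mem_insert, Finset.mem_insert] at hw
        rcases hw with rfl | rfl | hw
        · exact hxo
        · exact hyo
        · exact hWo hw
      have hc7 : (insert x (insert y W)).card = 7 := by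
        rw [Finset.card_insert_of_notMem, Finset.card_insert_of_notMem hy, hW]
        rw [Finset.mem_insert]
        exact fun h => h.elim hxy' hx
      have hc : (o \ insert x (insert y W)).card = 1 := by
        rw [Finset.card_sdiff_of_subset hsub, ho.2, hc7]
      obtain ⟨z, hz⟩ := Finset.card_pos.mp (by omega : 0 < (o \ insert x (insert y W)).card)
      rw [Finset.mem_sdiff, Finset.mem_insert, Finset.mem_insert] at hz
      obtain ⟨hzo, hz'⟩ := hz
      have hzx : x ≠ z := fun h => hz' (Or.inl h.symm)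
      have hzy : y ≠ z := fun h => hz' (Or.inr (Or.inl h.symm))
      have hzW : z ∉ W := fun h => hz' (Or.inr (Or.inr h))
      obtain ⟨g, hg, -, hgxy, hfix⟩ := exists_three_cycle ho hxo hyo hzo hxy' hzy hzx
      refine ⟨g, hg, fun w hw => hfix w (hWo hw) ?_ ?_ ?_, hgxy⟩
      · rintro rfl; exact hx hw
      · rintro rfl; exact hy hw
      · rintro rfl; exact hzW hw
  · have hyo : y ∉ o := fun h => hxo (hxy.mpr h)
    obtain ⟨k, hk, hkxy⟩ := Cfsg.Agent.S1554.pointwise_trans ho hxo hyo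
    exact ⟨k, hk.1, fun w hw => (mem_fixingSubgroup_iff _).mp hk.2 w (hWo hw), hkxy⟩

/-- A tetrad lies in an octad with 30 of the pairs disjoint from it. -/
theorem pair_count_oct (X : Finset Cfsg.GolayPt) (hX : X.card = 4) :
    {t : Finset Cfsg.GolayPt | t.card = 2 ∧ Disjoint X t ∧
      (∃ o ∈ Cfsg.octads, X ∪ t ⊆ o)}.ncard = 30 := by
  classical
  have h5 := card_octads_through_tetrad hX
  have hset : {t : Finset Cfsg.GolayPt | t.card = 2 ∧ Disjoint X t ∧
      (∃ o ∈ Cfsg.octads, X ∪ t ⊆ o)} = ↑((octadFinset.filter (fun o => X ⊆ o)).biUnion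
        (fun o => Finset.powersetCard 2 (o \ X))) := by
    ext U
    simp only [Set.mem_ofPred_eq, Finset.coe_biUnion, Set.mem_iUnion, Finset.mem_coe,
      Finset.mem_filter, mem_octadFinset, Finset.mem_powersetCard, exists_prop]
    constructor
    · rintro ⟨hU, hd, o, ho, hsub⟩
      exact ⟨o, ⟨ho, Finset.union_subset_left hsub⟩, ⟨fun p hp => Finset.mem_sdiff.mpr
        ⟨hsub (Finset.mem_union_right _ hp), fun hpT => Finset.disjoint_left.mp hd hpT hp⟩, hU⟩⟩
    · rintro ⟨o, ⟨ho, hTo⟩, hUo, hU⟩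
      exact ⟨hU, Finset.disjoint_right.mpr fun p hp => (Finset.mem_sdiff.mp (hUo hp)).2, o, ho,
        Finset.union_subset hTo (fun p hp => (Finset.mem_sdiff.mp (hUo hp)).1)⟩
  rw [hset, Set.ncard_coe_finset, Finset.card_biUnion]
  · rw [Finset.sum_congr rfl (g := fun _ => 6), Finset.sum_const, h5]
    · rfl
    · intro o ho
      rw [Finset.mem_filter, mem_octadFinset] at ho
      rw [Finset.card_powersetCard, Finset.card_sdiff_of_subset ho.2, octad_card ho.1, hX]
      rfl
  · intro o ho o' ho' hne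
    simp only [Finset.coe_filter, mem_octadFinset, Set.mem_ofPred_eq] at ho ho'
    rw [Function.onFun, Finset.disjoint_left]
    intro U hU hU'
    rw [Finset.mem_powersetCard] at hU hU'
    apply hne
    apply octad_eq_of_inter_ge ho.1 ho'.1
    have hd : Disjoint X U :=
      Finset.disjoint_right.mpr fun p hp => (Finset.mem_sdiff.mp (hU.1 hp)).2
    have hsub : X ∪ U ⊆ o ∩ o' := by
      intro p hp
      rw [Finset.mem_union] at hp
      rw [Finset.mem_inter]
      rcases hp with hp | hp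
      · exact ⟨ho.2 hp, ho'.2 hp⟩
      · exact ⟨(Finset.mem_sdiff.mp (hU.1 hp)).1, (Finset.mem_sdiff.mp (hU'.1 hp)).1⟩
    have hcard : (X ∪ U).card = 6 := by rw [Finset.card_union_of_disjoint hd, hX, hU.2]
    have := Finset.card_le_card hsub
    omega

/-- A tetrad lies in no octad with 160 of the pairs disjoint from it. -/
theorem pair_count_non (X : Finset Cfsg.GolayPt) (hX : X.card = 4) :
    {t : Finset Cfsg.GolayPt | t.card = 2 ∧ Disjoint X t ∧
      ¬ (∃ o ∈ Cfsg.octads, X ∪ t ⊆ o)}.ncard = 160 := by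
  classical
  have h1 := ncard_inter_eq X 2 0 (by omega)
  rw [hX] at h1
  have h2 : {y : Finset Cfsg.GolayPt | y.card = 2 ∧ (X ∩ y).card = 0}
      = {U : Finset Cfsg.GolayPt | U.card = 2 ∧ Disjoint X U ∧
          (∃ o ∈ Cfsg.octads, X ∪ U ⊆ o)} ∪
        {U : Finset Cfsg.GolayPt | U.card = 2 ∧ Disjoint X U ∧
          ¬ (∃ o ∈ Cfsg.octads, X ∪ U ⊆ o)} := by
    ext U
    simp only [Set.mem_ofPred_eq, Set.mem_union, Finset.card_eq_zero,
      ← Finset.disjoint_iff_inter_eq_empty]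
    constructor
    · rintro ⟨hU, hd⟩
      by_cases hex : ∃ o ∈ Cfsg.octads, X ∪ U ⊆ o
      · exact Or.inl ⟨hU, hd, hex⟩
      · exact Or.inr ⟨hU, hd, hex⟩
    · rintro (⟨hU, hd, -⟩ | ⟨hU, hd, -⟩) <;> exact ⟨hU, hd⟩
  have h3 : Disjoint {U : Finset Cfsg.GolayPt | U.card = 2 ∧ Disjoint X U ∧
        (∃ o ∈ Cfsg.octads, X ∪ U ⊆ o)}
      {U : Finset Cfsg.GolayPt | U.card = 2 ∧ Disjoint X U ∧
        ¬ (∃ o ∈ Cfsg.octads, X ∪ U ⊆ o)} := by
    rw [Set.disjoint_left]
    rintro U ⟨-, -, h⟩ ⟨-, -, h'⟩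
    exact h' h
  rw [h2, Set.ncard_union_eq h3 (Set.toFinite _) (Set.toFinite _), pair_count_oct X hX] at h1
  have h4 : (Nat.choose 4 0 * Nat.choose (24 - 4) (2 - 0)) = 190 := by decide
  omega

/-- Six-fold transitivity up to the octad condition: two lists of six distinct points are
conjugate under the group of the code as soon as both or neither lie in an octad. -/
theorem six_trans {L L' : List Cfsg.GolayPt} {x y : Cfsg.GolayPt} (hL : (L ++ [x]).Nodup)
    (hL' : (L' ++ [y]).Nodup) (hlen : L.length = 5) (hlen' : L'.length = 5)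
    (hiff : (∃ o ∈ Cfsg.octads, (∀ z ∈ L, z ∈ o) ∧ x ∈ o) ↔
      (∃ o ∈ Cfsg.octads, (∀ z ∈ L', z ∈ o) ∧ y ∈ o)) :
    ∃ g ∈ Cfsg.M24, L.map (fun p => g p) = L' ∧ g x = y := by
  classical
  have hL5 : L.Nodup := hL.of_append_left
  have hL5' : L'.Nodup := hL'.of_append_left
  have hxL : x ∉ L := fun h => (List.nodup_append.mp hL).2.2 x h x (by simp) rfl
  have hyL' : y ∉ L' := fun h => (List.nodup_append.mp hL').2.2 y h y (by simp) rfl
  obtain ⟨g1, hg1, hmap⟩ := M24_lists_map hL5 hL5' (hlen.trans hlen'.symm) (by omega)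
  have hW : L'.toFinset.card = 5 := by rw [List.toFinset_card_of_nodup hL5', hlen']
  obtain ⟨o', ho', hWo'⟩ := octad_exists hW
  have hmem : ∀ z ∈ L, g1 z ∈ L' := by
    intro z hz
    rw [← hmap]
    exact List.mem_map.mpr ⟨z, hz, rfl⟩
  have hx : g1 x ∉ L'.toFinset := by
    rw [List.mem_toFinset, ← hmap, List.mem_map]
    rintro ⟨z, hz, hzx⟩
    exact hxL (g1.injective hzx ▸ hz)
  have hy : y ∉ L'.toFinset := by
    rw [List.mem_toFinset]; exact hyL'
  have hxy : g1 x ∈ o' ↔ y ∈ o' := by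
    constructor
    · intro hgx
      have h1 : ∃ o ∈ Cfsg.octads, (∀ z ∈ L, z ∈ o) ∧ x ∈ o := by
        refine ⟨g1⁻¹ • o', smul_mem_octads (Cfsg.M24.inv_mem hg1) ho', fun z hz => ?_, ?_⟩
        · rw [Finset.mem_inv_smul_finset_iff]
          exact hWo' (List.mem_toFinset.mpr (hmem z hz))
        · rw [Finset.mem_inv_smul_finset_iff]
          exact hgx
      obtain ⟨o2, ho2, hL2, hy2⟩ := hiff.mp h1
      have hsub : L'.toFinset ⊆ o2 ∩ o' := by
        intro z hz
        rw [Finset.mem_inter]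
        exact ⟨hL2 z (List.mem_toFinset.mp hz), hWo' hz⟩
      have h5 := Finset.card_le_card hsub
      rw [hW] at h5
      rw [← octad_eq_of_inter_ge ho2 ho' h5]
      exact hy2
    · intro hyo
      have h1 : ∃ o ∈ Cfsg.octads, (∀ z ∈ L', z ∈ o) ∧ y ∈ o :=
        ⟨o', ho', fun z hz => hWo' (List.mem_toFinset.mpr hz), hyo⟩
      obtain ⟨o, ho, hLo, hxo⟩ := hiff.mpr h1
      have hsub : L'.toFinset ⊆ g1 • o ∩ o' := by
        intro z hz
        rw [Finset.mem_inter]
        refine ⟨?_, hWo' hz⟩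
        rw [List.mem_toFinset, ← hmap, List.mem_map] at hz
        obtain ⟨w, hw, rfl⟩ := hz
        exact Finset.smul_mem_smul_finset (hLo w hw)
      have h5 := Finset.card_le_card hsub
      rw [hW] at h5
      rw [← octad_eq_of_inter_ge (smul_mem_octads hg1 ho) ho' h5]
      exact Finset.smul_mem_smul_finset hxo
  obtain ⟨h, hh, hfix, hhxy⟩ := five_fix_trans hW ho' hWo' hx hy hxy
  refine ⟨h * g1, Cfsg.M24.mul_mem hh hg1, ?_, ?_⟩
  · rw [← hmap]
    apply List.map_congr_left
    intro z hz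
    rw [Equiv.Perm.mul_apply]
    exact hfix (g1 z) (List.mem_toFinset.mpr (hmem z hz))
  · rw [Equiv.Perm.mul_apply]
    exact hhxy

theorem smul_pair (g : Equiv.Perm Cfsg.GolayPt) (a b : Cfsg.GolayPt) :
    g • ({a, b} : Finset Cfsg.GolayPt) = {g a, g b} := by
  rw [Finset.smul_finset_insert, Finset.smul_finset_singleton]
  rfl

end Cfsg.Agent.Lib.Helper27.SixPt
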